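import Groth.Agent.KGrLib.Gr
import Groth.Agent.LambdaSpL.Gamma
import Groth.Agent.LambdaSpL.Special

/-! The Chern character. -/

universe v

open LaurentPolynomial LambdaRing LambdaSpLib Finset fwdDiff
open scoped TensorProduct

noncomputable section

set_option synthInstance.maxHeartbeats 200000

namespace KGrLib

variable {K : Type v} [CommRing K] [LambdaOps K] (P : PosStructure K)

theorem cls_congr {n : ℕ} {x y : K} (hx : x ∈ gammaFiltration P n) (hy : y ∈ gammaFiltration P n)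
    (h : x = y) : cls P n ⟨x, hx⟩ = cls P n ⟨y, hy⟩ := by subst h; rfl

theorem grK_sum {n : ℕ} {ι : Type*} (s : Finset ι) (f : ι → K)
    (hf : ∀ i ∈ s, f i ∈ gammaFiltration P n) :
    KGr.grK P (n : ℤ) (∑ i ∈ s, f i) = ∑ i ∈ s, KGr.grK P (n : ℤ) (f i) := by
  classical
  induction s using Finset.induction with
  | empty =>
    simp only [sum_empty]
    rw [grK_eq P (zero_mem _)]
    exact map_zero _
  | insert a s ha ih =>
    have h1 := hf a (mem_insert_self a s)
    have h2 : ∀ i ∈ s, f i ∈ gammaFiltration P n := fun i hi => hf i (mem_insert_of_mem hi)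
    have h3 : ∑ i ∈ s, f i ∈ gammaFiltration P n := sum_mem h2
    rw [sum_insert ha, sum_insert ha, ← ih h2, grK_eq P (add_mem h1 h3), grK_eq P h1, grK_eq P h3,
      ← map_add]
    rfl

theorem grK_zsmul {n : ℕ} (c : ℤ) {x : K} (hx : x ∈ gammaFiltration P n) :
    KGr.grK P (n : ℤ) (c • x) = c • KGr.grK P (n : ℤ) x := by
  rw [grK_eq P (zsmul_mem hx c), grK_eq P hx, ← map_zsmul]
  rfl

theorem grK_mul {a b : ℕ} {x y : K} (hx : x ∈ gammaFiltration P a) (hy : y ∈ gammaFiltration P b) :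
    KGr.grK P (a : ℤ) x * KGr.grK P (b : ℤ) y = KGr.grK P ((a + b : ℕ) : ℤ) (x * y) := by
  rw [grK_eq P hx, grK_eq P hy, grK_eq P (gf_mul P hx hy), cls_mul]

/-- `γ(x - ε x)`. -/
def gser (x : K) (i : ℕ) : K := gamma i (x - (P.aug x : K))

theorem aug_sub_aug (x : K) : P.aug (x - (P.aug x : K)) = 0 := by simp

theorem gser_mem (x : K) (i : ℕ) : gser P x i ∈ gammaFiltration P i :=
  gamma_mem_gf P (aug_sub_aug P x) i

theorem gser_zero (x : K) : gser P x 0 = 1 := gamma_zero _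

/-- The power sums of `γ(x - ε x)`. -/
def qsum (x : K) (k : ℕ) : K := gSeq (gser P x) k

theorem qsum_mem (x : K) : ∀ k, qsum P x k ∈ gammaFiltration P k := by
  intro k
  induction k using Nat.strong_induction_on with
  | h k ih =>
    cases k with
    | zero => rw [gf_zero]; trivial
    | succ k =>
      rw [qsum, gSeq]
      refine gf_smul_mem P _ _ (sub_mem (gf_smul_mem P _ _ (gser_mem P x _)) (sum_mem fun i _ => ?_))
      rw [mul_assoc]
      refine gf_smul_mem P _ _ ?_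
      have := gf_mul P (ih (i + 1) (by omega)) (gser_mem P x (k - i))
      rwa [show (i : ℕ) + 1 + (k - i) = k + 1 by omega] at this

theorem qsum_eq_fwdDiff (x : K) (k : ℕ) (hk : 1 ≤ k) :
    qsum P x k = Δ_[1]^[k] (fun i => adams P i (x - (P.aug x : K))) 0 := by
  set y := x - (P.aug x : K) with hy
  have h0 : adams P 0 y = 0 := by rw [adams_zero_eq, hy, aug_sub_aug]; simp
  have hl : NewtonRel (fun n => LambdaOps.lam n y) (fun i => adams P i y) :=
    (newtonRel_lam y).congr (fun _ => rfl) fun i hi => by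
      obtain ⟨i, rfl⟩ := Nat.exists_eq_add_of_le hi
      rw [add_comm, adams_succ_eq]
  have hg := (newtonRel_gamT (E := fun n => LambdaOps.lam n y) (f := fun i => adams P i y)
    (LambdaOps.lam_zero y) h0 hl).congr (E' := gser P x) (fun n => (gamma_eq_gamT n y).symm)
    (fun _ _ => rfl)
  exact NewtonRel.p_unique (gser_zero P x) (newtonRel_gSeq (gser_zero P x)) hg k hk

/-- The total Chern class. -/
def cser (x : K) (i : ℕ) : KGr.Gr P := KGr.chern P i x

theorem cser_eq (x : K) (i : ℕ) : cser P x i = KGr.grK P (i : ℤ) (gser P x i) := rfl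

theorem cser_zero (x : K) : cser P x 0 = 1 := by
  rw [cser_eq, gser_zero, grK_eq P (show (1 : K) ∈ gammaFiltration P 0 by rw [gf_zero]; trivial), cls_one]

theorem cser_eq_zero {d : ℕ} (hd : gammaFiltration P (d + 1) = ⊥) (x : K) (i : ℕ) (hi : d < i) :
    cser P x i = 0 := by
  have h : gser P x i = 0 := by
    have := gf_anti P hi (gser_mem P x i)
    rwa [hd, AddSubgroup.mem_bot] at this
  rw [cser_eq, h, grK_eq P (zero_mem _)]
  exact map_zero _

theorem gf_natCast_mul {n : ℕ} (c : K) {x : K} (hx : x ∈ gammaFiltration P n) :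
    c * x ∈ gammaFiltration P n := gf_smul_mem P n c hx

theorem newtonRel_cser (x : K) : NewtonRel (cser P x) (fun k => KGr.grK P (k : ℤ) (qsum P x k)) := by
  intro n
  have hq := newtonRel_gSeq (gser_zero P x) n
  have hterm : ∀ i ∈ range (n + 1), (-1 : K) ^ i * gSeq (gser P x) (i + 1) * gser P x (n - i) ∈
      gammaFiltration P (n + 1) := fun i hi => by
    simp only [mem_range] at hi
    rw [mul_assoc]
    refine gf_smul_mem P _ _ ?_
    have := gf_mul P (qsum_mem P x (i + 1)) (gser_mem P x (n - i))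
    rwa [show i + 1 + (n - i) = n + 1 by omega] at this
  have := congrArg (KGr.grK P ((n + 1 : ℕ) : ℤ)) hq
  rw [grK_sum P _ _ hterm, show ((n : K) + 1) * gser P x (n + 1) = ((n + 1 : ℕ) : ℤ) • gser P x (n + 1) by
    simp [zsmul_eq_mul], grK_zsmul P _ (gser_mem P x _)] at this
  rw [cser_eq]
  refine ((zsmul_eq_mul _ _).trans (by simp)).symm.trans (this.trans (sum_congr rfl fun i hi => ?_))
  simp only [mem_range] at hi
  have hm : qsum P x (i + 1) * gser P x (n - i) ∈ gammaFiltration P (n + 1) := by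
    have := gf_mul P (qsum_mem P x (i + 1)) (gser_mem P x (n - i))
    rwa [show i + 1 + (n - i) = n + 1 by omega] at this
  have e1 : (-1 : K) ^ i * gSeq (gser P x) (i + 1) * gser P x (n - i) =
      ((-1 : ℤ) ^ i) • (qsum P x (i + 1) * gser P x (n - i)) := by
    rw [zsmul_eq_mul, Int.cast_pow, Int.cast_neg, Int.cast_one, mul_assoc]
    rfl
  rw [e1, grK_zsmul P _ hm, cser_eq, mul_assoc,
    grK_mul P (qsum_mem P x (i + 1)) (gser_mem P x (n - i)), show i + 1 + (n - i) = n + 1 by omega,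
    zsmul_eq_mul, Int.cast_pow, Int.cast_neg, Int.cast_one]

theorem gser_add (x y : K) (k : ℕ) :
    gser P (x + y) k = ∑ i ∈ range (k + 1), gser P x i * gser P y (k - i) := by
  rw [gser, show x + y - (P.aug (x + y) : K) = (x - (P.aug x : K)) + (y - (P.aug y : K)) by
    rw [map_add, Int.cast_add]; ring]
  exact gamma_add k _ _

theorem cser_add (x y : K) :
    PowerSeries.mk (cser P (x + y)) = PowerSeries.mk (cser P x) * PowerSeries.mk (cser P y) := by
  ext k
  rw [PowerSeries.coeff_mk, PowerSeries.coeff_mul, Finset.Nat.sum_antidiagonal_eq_sum_range_succ_mk,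
    cser_eq, gser_add, grK_sum P _ _ (fun i hi => by
      simp only [mem_range] at hi
      have := gf_mul P (gser_mem P x i) (gser_mem P y (k - i))
      rwa [show i + (k - i) = k by omega] at this)]
  refine sum_congr rfl fun i hi => ?_
  simp only [mem_range] at hi
  rw [PowerSeries.coeff_mk, PowerSeries.coeff_mk, cser_eq, cser_eq,
    grK_mul P (gser_mem P x i) (gser_mem P y (k - i)), show i + (k - i) = k by omega]

theorem psum_add (x y : K) (k : ℕ) (hk : 1 ≤ k) :
    gSeq (cser P (x + y)) k = gSeq (cser P x) k + gSeq (cser P y) k :=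
  NewtonRel.p_unique (E := cser P (x + y)) (p := gSeq (cser P (x + y)))
    (q := gSeq (cser P x) + gSeq (cser P y)) (cser_zero P _) (newtonRel_gSeq (cser_zero P _))
    (newtonRel_mul (E := cser P x) (F := cser P y) (G := cser P (x + y))
      (p := gSeq (cser P x)) (q := gSeq (cser P y))
      (newtonRel_gSeq (cser_zero P x)) (newtonRel_gSeq (cser_zero P y)) (cser_add P x y)) k hk

/-- The elementary symmetric functions as variables. -/
def eVar (d : ℕ) (i : ℕ) : MvPolynomial (Fin d) ℚ :=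
  if i = 0 then 1 else if h : i - 1 < d then MvPolynomial.X ⟨i - 1, h⟩ else 0

theorem aeval_esymm_eVar (d : ℕ) (i : ℕ) :
    MvPolynomial.aeval (fun j : Fin d => MvPolynomial.esymm (Fin d) ℚ (j + 1)) (eVar d i) =
      ((Finset.univ : Finset (Fin d)).val.map MvPolynomial.X).esymm i := by
  rw [← MvPolynomial.esymm_eq_multiset_esymm]
  rw [eVar]
  split_ifs with h0 h1
  · subst h0; simp
  · simp only [MvPolynomial.aeval_X]
    rw [show i - 1 + 1 = i by omega]
  · rw [map_zero, MvPolynomial.esymm_eq_multiset_esymm, esymm_eq_zero_of_card_lt]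
    simp
    omega

theorem chPoly_eq (d : ℕ) :
    KGr.chPoly d = (d : MvPolynomial (Fin d) ℚ) +
      ∑ k ∈ range d, (1 / ((k + 1).factorial : ℚ)) • gSeq (eVar d) (k + 1) := by
  rw [KGr.chPoly, AlgEquiv.symm_apply_eq]
  refine Subtype.ext ?_
  change _ = ((MvPolynomial.esymmAlgHom (Fin d) ℚ d) _).val
  rw [MvPolynomial.esymmAlgHom_apply, map_add, map_natCast, map_sum]
  simp only [KGr.expTrunc, map_sum, map_mul, map_pow, Polynomial.aeval_C, Polynomial.aeval_X]
  rw [Finset.sum_comm, sum_range_succ', add_comm]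
  congr 1
  · simp
  refine sum_congr rfl fun k _ => ?_
  rw [map_smul]
  have hk : (MvPolynomial.aeval fun j : Fin d => MvPolynomial.esymm (Fin d) ℚ (j + 1)).toRingHom
      (gSeq (eVar d) (k + 1)) = ∑ a : Fin d, MvPolynomial.X a ^ (k + 1) := by
    rw [map_gSeq _ (by simp [eVar]) _ (by omega)]
    have hs := newtonRel_esymm ((Finset.univ : Finset (Fin d)).val.map
      (MvPolynomial.X : Fin d → MvPolynomial (Fin d) ℚ))
    have hfun : (MvPolynomial.aeval fun j : Fin d => MvPolynomial.esymm (Fin d) ℚ (j + 1)).toRingHom ∘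
        eVar d = fun i => ((Finset.univ : Finset (Fin d)).val.map MvPolynomial.X).esymm i :=
      funext fun i => aeval_esymm_eVar d i
    rw [hfun, NewtonRel.p_unique (esymm_zero' _) (newtonRel_gSeq (esymm_zero' _)) hs (k + 1) (by omega)]
    simp only [Multiset.map_map, Function.comp_apply]
    rfl
  change _ = (1 / ((k + 1).factorial : ℚ)) •
    (MvPolynomial.aeval fun j : Fin d => MvPolynomial.esymm (Fin d) ℚ (j + 1)).toRingHom (gSeq (eVar d) (k + 1))
  rw [hk, Finset.smul_sum]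
  refine sum_congr rfl fun a _ => ?_
  rw [Algebra.smul_def]

variable {d : ℕ} (hd : gammaFiltration P (d + 1) = ⊥)

include hd in
theorem chK_eq (x : K) : KGr.chK P d x = algebraMap ℚ (KGr.Gr P) (P.aug x) +
    ∑ k ∈ range d, (1 / ((k + 1).factorial : ℚ)) • gSeq (cser P x) (k + 1) := by
  rw [KGr.chK, chPoly_eq, map_add, map_natCast, map_sum, map_sub, map_natCast]
  rw [← add_assoc, sub_add_cancel]
  congr 1
  refine sum_congr rfl fun k _ => ?_
  rw [map_smul]
  congr 1
  have hf : (MvPolynomial.aeval fun i : Fin d => KGr.chern P (i.1 + 1) x).toRingHom ∘ eVar d =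
      cser P x := funext fun i => by
    simp only [Function.comp_apply, eVar]
    split_ifs with h0 h1
    · subst h0; simp [cser_zero]
    · exact (MvPolynomial.aeval_X _ _).trans (by rw [cser]; congr; simp; omega)
    · rw [cser_eq_zero P hd x i (by omega)]; exact map_zero _
  change (MvPolynomial.aeval fun i : Fin d => KGr.chern P (i.1 + 1) x).toRingHom _ = _
  exact (map_gSeq (R := MvPolynomial (Fin d) ℚ) (S := KGr.Gr P)
    (MvPolynomial.aeval fun i : Fin d => KGr.chern P (i.1 + 1) x).toRingHom (E := eVar d) (by simp [eVar])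
    (k + 1) (by omega)).trans (by rw [hf])

include hd in
theorem chK_add (x y : K) : KGr.chK P d (x + y) = KGr.chK P d x + KGr.chK P d y := by
  rw [chK_eq P hd, chK_eq P hd, chK_eq P hd, add_add_add_comm, ← sum_add_distrib, map_add, Int.cast_add,
    map_add]
  congr 1
  refine sum_congr rfl fun k _ => ?_
  rw [psum_add P x y (k + 1) (by omega), smul_add]

/-- `ch` as a linear map on `ℚ ⊗ K`. -/
def chLin : ℚ ⊗[ℤ] K →ₗ[ℚ] KGr.Gr P :=
  LinearMap.liftBaseChange ℚ (AddMonoidHom.mk' (KGr.chK P d) (chK_add P hd)).toIntLinearMap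

theorem chLin_tmul (x : K) : chLin P hd ((1 : ℚ) ⊗ₜ[ℤ] x) = KGr.chK P d x := by
  rw [chLin, LinearMap.liftBaseChange_tmul, one_smul]; rfl

theorem grK_eq_zero_of_tmul {n : ℕ} {x : K} (hx : x ∈ gammaFiltration P n)
    (h : (1 : ℚ) ⊗ₜ[ℤ] x ∈ qF P (n + 1)) : KGr.grK P (n : ℤ) x = 0 := by
  obtain ⟨N, y, hN, hy, e⟩ := exists_tmul_of_mem_qF P h
  have e2 : (1 : ℚ) ⊗ₜ[ℤ] ((N : K) * x - y) = 0 := by
    rw [TensorProduct.tmul_sub, ← e, ← nsmul_eq_mul, TensorProduct.tmul_smul, Nat.cast_smul_eq_nsmul,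
      sub_self]
  obtain ⟨M, hM, hM'⟩ := exists_mul_eq_zero_of_tmul e2
  rw [grK_eq P hx]
  have h3 : ((M * N : ℕ) : K) * x ∈ gammaFiltration P (n + 1) := by
    rw [mul_sub, sub_eq_zero] at hM'
    rw [Nat.cast_mul, mul_assoc, hM']
    exact gf_smul_mem P _ _ hy
  have h4 := cls_eq_zero P (gf_smul_mem P n _ hx) h3
  have h5 : cls P n ⟨((M * N : ℕ) : K) * x, gf_smul_mem P n _ hx⟩ = (M * N : ℕ) • cls P n ⟨x, hx⟩ := by
    rw [← map_nsmul]
    exact cls_congr P _ _ (nsmul_eq_mul _ _).symm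
  rw [h5, ← Nat.cast_smul_eq_nsmul ℚ] at h4
  exact (smul_eq_zero.mp h4).resolve_left (Nat.cast_ne_zero.mpr (Nat.mul_ne_zero hM hN))

variable (hP : HasSplitting K P)

/-- `ψ²` on `ℚ ⊗ K`. -/
def psiQ (j : ℕ) : ℚ ⊗[ℤ] K →ₗ[ℚ] ℚ ⊗[ℤ] K :=
  LinearMap.liftBaseChange ℚ ((TensorProduct.mk ℤ ℚ K 1).toAddMonoidHom.comp (adamsAdd P j)).toIntLinearMap

theorem psiQ_tmul (j : ℕ) (x : K) : psiQ P j ((1 : ℚ) ⊗ₜ[ℤ] x) = (1 : ℚ) ⊗ₜ[ℤ] adams P j x := by
  rw [psiQ, LinearMap.liftBaseChange_tmul, one_smul]; rfl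

/-- The weight spaces. -/
def eig (m : ℕ) : Submodule ℚ (ℚ ⊗[ℤ] K) := Module.End.eigenspace (psiQ P 2) ((2 : ℚ) ^ m)

include hP hd in
theorem adams_of_eig {m : ℕ} {x : K} (hx : (1 : ℚ) ⊗ₜ[ℤ] x ∈ eig P m) (i : ℕ) (hi : 1 ≤ i) :
    (1 : ℚ) ⊗ₜ[ℤ] adams P i x = ((i : ℚ) ^ m) • ((1 : ℚ) ⊗ₜ[ℤ] x) := by
  rcases eq_or_lt_of_le hi with rfl | hi'
  · rw [adams_succ_eq, adamsOp_one_apply]; simp
  · have h2 : (1 : ℚ) ⊗ₜ[ℤ] x ∈ Module.End.eigenspace (psiQ P i) ((i : ℚ) ^ m) :=
      eigen_le_eigen P hP 2 (psiQ P 2) hd le_rfl hi' (psiQ P i) (fun y => psiQ_tmul P 2 y)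
        (fun y => psiQ_tmul P i y) m (by simpa [eig] using hx)
    rw [← psiQ_tmul]
    exact Module.End.mem_eigenspace_iff.mp h2

include hP hd in
theorem chK_of_eig {m : ℕ} {x : K} (hx : x ∈ gammaFiltration P m) (he : (1 : ℚ) ⊗ₜ[ℤ] x ∈ eig P m) :
    KGr.chK P d x = cls P m ⟨x, hx⟩ := by
  set y := x - (P.aug x : K) with hy
  -- differences
  have hf : ∀ i : ℕ, 1 ≤ i → (1 : ℚ) ⊗ₜ[ℤ] adams P i y = ((i : ℚ) ^ m) • ((1 : ℚ) ⊗ₜ[ℤ] x) -
      (1 : ℚ) ⊗ₜ[ℤ] (P.aug x : K) := fun i hi => by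
    rw [← adams_of_eig P hd hP he i hi, ← TensorProduct.tmul_sub]
    congr 1
    rw [← adamsRingHom_apply P hP, ← adamsRingHom_apply P hP, hy, map_sub, map_intCast]
  have hf0 : adams P 0 y = 0 := by rw [adams_zero_eq, hy, aug_sub_aug]; simp
  rcases Nat.eq_zero_or_pos m with rfl | hm
  · -- weight zero
    have hy0 : (1 : ℚ) ⊗ₜ[ℤ] y = 0 := by
      have h1 : (1 : ℚ) ⊗ₜ[ℤ] y ∈ qF P 1 := tmul_mem_qF P (mem_gf_one P (aug_sub_aug P x)) 1
      have h2 : (1 : ℚ) ⊗ₜ[ℤ] y ∈ eig P 0 := by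
        rw [eig, Module.End.mem_eigenspace_iff, psiQ_tmul, hf 2 (by omega)]
        simp [hy, TensorProduct.tmul_sub]
      exact (Submodule.eq_bot_iff _).mp (eigen_inf_qF P hP 2 (psiQ P 2) (fun z => psiQ_tmul P 2 z)
        hd le_rfl 0) _ ⟨by simpa [eig] using h2, h1⟩
    have hall : ∀ i, (1 : ℚ) ⊗ₜ[ℤ] adams P i y = 0 := fun i => by
      rcases Nat.eq_zero_or_pos i with rfl | hi
      · rw [hf0, TensorProduct.tmul_zero]
      · rw [hf i hi]
        simpa [hy, TensorProduct.tmul_sub] using hy0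
    rw [chK_eq P hd, sum_eq_zero, add_zero]
    · have hi : cls P 0 ⟨y, by rw [gf_zero]; trivial⟩ = 0 :=
        cls_eq_zero P _ (mem_gf_one P (aug_sub_aug P x))
      have h1 : (1 : K) ∈ gammaFiltration P 0 := by rw [gf_zero]; trivial
      have hxy : (⟨x, hx⟩ : gammaFiltration P 0) = ⟨y, by rw [gf_zero]; trivial⟩ + P.aug x • ⟨1, h1⟩ :=
        Subtype.ext (by simp [hy])
      rw [hxy, map_add, map_zsmul, hi, cls_one, zero_add, map_intCast, zsmul_one]
    · intro k _
      rw [← NewtonRel.p_unique (cser_zero P x) (newtonRel_cser P x) (newtonRel_gSeq (cser_zero P x))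
        (k + 1) (by omega), grK_eq_zero_of_tmul P (qsum_mem P x _), smul_zero]
      rw [qsum_eq_fwdDiff P x _ (by omega), fwdDiff_iter_eq_sum_shift, TensorProduct.tmul_sum,
        sum_eq_zero]
      · exact zero_mem _
      · intro i _
        rw [TensorProduct.tmul_smul, hall, smul_zero]
  · -- positive weight
    have haug : P.aug x = 0 := by
      have h1 := hf 2 (by omega)
      obtain ⟨M, hM, hM'⟩ := exists_mul_eq_zero_of_tmul (x := adams P 2 x - (2 : K) ^ m * x) (by
        rw [TensorProduct.tmul_sub, adams_of_eig P hd hP he 2 (by omega),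
          show (2 : K) ^ m * x = ((2 : ℤ) ^ m) • x by simp, TensorProduct.tmul_smul,
          ← Int.cast_smul_eq_zsmul ℚ]
        simp)
      have h2 := congrArg P.aug hM'
      rw [map_mul, map_sub, aug_adams P hP, map_mul, map_pow, map_natCast, map_ofNat, map_zero] at h2
      have h3 : ((2 : ℤ) ^ m) ≠ 1 := by
        have := Nat.one_lt_pow (n := m) (by omega) (show 1 < 2 by norm_num)
        exact_mod_cast this.ne'
      rcases mul_eq_zero.mp h2 with h | h
      · exact absurd (by exact_mod_cast h) hM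
      · have : P.aug x * (1 - (2 : ℤ) ^ m) = 0 := by linarith
        exact (mul_eq_zero.mp this).resolve_right (fun h => h3 (by linarith))
    have hall : ∀ i : ℕ, (1 : ℚ) ⊗ₜ[ℤ] adams P i y = ((i : ℤ) ^ m) • ((1 : ℚ) ⊗ₜ[ℤ] x) := fun i => by
      rcases Nat.eq_zero_or_pos i with rfl | hi
      · rw [hf0, TensorProduct.tmul_zero, Nat.cast_zero, zero_pow (by omega), zero_smul]
      · rw [hf i hi, haug, ← Int.cast_smul_eq_zsmul ℚ]
        simp
    set s : ℕ → ℤ := fun k => Δ_[1]^[k] (fun r : ℤ => r ^ m) 0 with hs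
    have hq : ∀ k, 1 ≤ k → (1 : ℚ) ⊗ₜ[ℤ] qsum P x k = s k • ((1 : ℚ) ⊗ₜ[ℤ] x) := fun k hk => by
      rw [qsum_eq_fwdDiff P x k hk, hs]
      dsimp only
      rw [fwdDiff_iter_eq_sum_shift, fwdDiff_iter_eq_sum_shift, TensorProduct.tmul_sum, sum_smul]
      refine sum_congr rfl fun i _ => ?_
      rw [TensorProduct.tmul_smul, zero_add, zero_add, smul_eq_mul, mul_one, nsmul_one,
        hall, smul_smul]
      rfl
    have hp : ∀ k, 1 ≤ k → gSeq (cser P x) k =
        if k = m then (m.factorial : ℚ) • cls P m ⟨x, hx⟩ else 0 := fun k hk => by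
      rw [← NewtonRel.p_unique (cser_zero P x) (newtonRel_cser P x) (newtonRel_gSeq (cser_zero P x)) k hk]
      rcases lt_trichotomy k m with h | rfl | h
      · rw [if_neg h.ne, grK_eq_zero_of_tmul P (qsum_mem P x k)]
        rw [hq k hk]
        exact zsmul_mem (qF_anti P h (tmul_mem_qF P hx 1)) _
      · rw [if_pos rfl]
        have hsm : s k = (k.factorial : ℤ) := by
          rw [hs]; exact (congrFun (fwdDiff_iter_eq_factorial (R := ℤ) (n := k)) 0)
        have hmem : qsum P x k - (k.factorial : ℤ) • x ∈ gammaFiltration P k :=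
          sub_mem (qsum_mem P x k) (zsmul_mem hx _)
        have h0 : KGr.grK P (k : ℤ) (qsum P x k - (k.factorial : ℤ) • x) = 0 := by
          refine grK_eq_zero_of_tmul P hmem ?_
          rw [TensorProduct.tmul_sub, hq k hk, hsm, TensorProduct.tmul_smul, sub_self]
          exact zero_mem _
        rw [grK_eq P hmem] at h0
        rw [grK_eq P (qsum_mem P x k), Nat.cast_smul_eq_nsmul, ← natCast_zsmul, ← map_zsmul,
          ← sub_eq_zero, ← map_sub]
        exact h0
      · rw [if_neg h.ne']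
        refine grK_eq_zero_of_tmul P (qsum_mem P x k) ?_
        have h0 : s k = 0 := by
          rw [hs]; exact congrFun (fwdDiff_iter_pow_eq_zero_of_lt (R := ℤ) h) 0
        rw [hq k hk, h0, zero_smul]
        exact zero_mem _
    rw [chK_eq P hd, haug, Int.cast_zero, map_zero, zero_add]
    rcases le_or_gt m d with hmd | hmd
    · rw [sum_eq_single (m - 1)]
      · rw [hp _ (by omega), if_pos (by omega), show m - 1 + 1 = m by omega, smul_smul,
          one_div_mul_cancel (by positivity), one_smul]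
      · intro b _ hb
        rw [hp _ (by omega), if_neg (by omega), smul_zero]
      · intro h
        exact absurd (mem_range.mpr (by omega)) h
    · rw [sum_eq_zero fun b hb => by
        simp only [mem_range] at hb
        rw [hp _ (by omega), if_neg (by omega), smul_zero]]
      refine (cls_eq_zero P hx ?_).symm
      have hx0 : x ∈ gammaFiltration P (d + 1) := gf_anti P hmd hx
      rw [hd, AddSubgroup.mem_bot] at hx0
      rw [hx0]; exact zero_mem _

include hP hd in
theorem chLin_of_eig {m : ℕ} {v : ℚ ⊗[ℤ] K} (hv : v ∈ eig P m) :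
    ∃ (N : ℕ) (x : K) (hx : x ∈ gammaFiltration P m), N ≠ 0 ∧ (N : ℚ) • v = (1 : ℚ) ⊗ₜ[ℤ] x ∧
      (N : ℚ) • chLin P hd v = cls P m ⟨x, hx⟩ := by
  obtain ⟨N, x, hN, hx, e⟩ := exists_tmul_of_mem_qF P
    (eigen_le_qF P hP 2 (psiQ P 2) (fun z => psiQ_tmul P 2 z) le_rfl m (by simpa [eig] using hv))
  refine ⟨N, x, hx, hN, e, ?_⟩
  rw [← map_smul, e, chLin_tmul]
  exact chK_of_eig P hd hP hx (e ▸ Submodule.smul_mem _ _ hv)

include hP hd in
theorem iSup_eig : (⨆ m ∈ range (d + 1), eig P m) = ⊤ := by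
  simpa [eig] using iSup_eigen_eq_top P hP 2 (psiQ P 2) (fun z => psiQ_tmul P 2 z) hd le_rfl

include hP hd in
theorem chLin_surjective : Function.Surjective (chLin P hd) := by
  rw [← LinearMap.range_eq_top, eq_top_iff, ← span_cls_eq_top, Submodule.span_le]
  rintro _ ⟨n, x, hx, rfl⟩
  have hmem : (1 : ℚ) ⊗ₜ[ℤ] x ∈ eig P n ⊔ qF P (n + 1) := by
    have := eigen_sup_qF P hP 2 (psiQ P 2) (fun z => psiQ_tmul P 2 z) hd le_rfl n
    simp only [eig]
    norm_num at this ⊢
    rw [this]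
    exact tmul_mem_qF P hx 1
  obtain ⟨e, he, f, hf, hef⟩ := Submodule.mem_sup.mp hmem
  obtain ⟨N, y, hy, hN, hNe, hch⟩ := chLin_of_eig P hd hP he
  have h0 : KGr.grK P (n : ℤ) ((N : K) * x - y) = 0 := by
    refine grK_eq_zero_of_tmul P (sub_mem (gf_smul_mem P _ _ hx) hy) ?_
    rw [TensorProduct.tmul_sub, ← hNe, ← nsmul_eq_mul, TensorProduct.tmul_smul,
      ← Nat.cast_smul_eq_nsmul ℚ, ← hef, smul_add, add_sub_cancel_left]
    exact Submodule.smul_mem _ _ hf
  rw [grK_eq P (sub_mem (gf_smul_mem P _ _ hx) hy),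
    show (⟨(N : K) * x - y, sub_mem (gf_smul_mem P _ _ hx) hy⟩ : gammaFiltration P n) =
      N • ⟨x, hx⟩ - ⟨y, hy⟩ from Subtype.ext (by simp [nsmul_eq_mul]),
    map_sub, map_nsmul, sub_eq_zero, ← hch, ← Nat.cast_smul_eq_nsmul ℚ] at h0
  refine ⟨e, ?_⟩
  exact (smul_right_injective (KGr.Gr P) (Nat.cast_ne_zero.mpr hN : (N : ℚ) ≠ 0) h0).symm

include hP hd in
theorem chLin_injective : Function.Injective (chLin P hd) := by
  rw [injective_iff_map_eq_zero]
  intro v hv
  have hmem : v ∈ ⨆ m ∈ range (d + 1), eig P m := by rw [iSup_eig P hd hP]; trivial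
  obtain ⟨c, rfl⟩ := (Submodule.mem_iSup_finset_iff_exists_sum _ _).mp hmem
  refine sum_eq_zero fun m hm => ?_
  have hcomp : comp P m (chLin P hd (∑ i ∈ range (d + 1), (c i : ℚ ⊗[ℤ] K))) =
      (qF P (m + 1)).mkQ (c m : ℚ ⊗[ℤ] K) := by
    rw [map_sum, map_sum, sum_eq_single m]
    · obtain ⟨N, y, hy, hN, hNe, hch⟩ := chLin_of_eig P hd hP (c m).2
      refine smul_right_injective _ (Nat.cast_ne_zero.mpr hN : (N : ℚ) ≠ 0) ?_
      dsimp only
      rw [← map_smul (comp P m), hch, comp_cls, if_pos rfl, ← map_smul, hNe]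
    · intro i _ hi
      obtain ⟨N, y, hy, hN, hNe, hch⟩ := chLin_of_eig P hd hP (c i).2
      refine smul_right_injective _ (Nat.cast_ne_zero.mpr hN : (N : ℚ) ≠ 0) ?_
      dsimp only
      rw [← map_smul (comp P m), hch, comp_cls, if_neg hi, smul_zero]
    · exact fun h => absurd hm h
  rw [hv, map_zero, eq_comm] at hcomp
  exact (Submodule.eq_bot_iff _).mp
    (eigen_inf_qF P hP 2 (psiQ P 2) (fun z => psiQ_tmul P 2 z) hd le_rfl m) _
    ⟨by simpa [eig] using (c m).2, (Submodule.Quotient.mk_eq_zero _).mp hcomp⟩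

include hP hd in
theorem chLin_mul (v w : ℚ ⊗[ℤ] K) : chLin P hd (v * w) = chLin P hd v * chLin P hd w := by
  have key : ∀ a b, ∀ v ∈ eig P a, ∀ w ∈ eig P b,
      chLin P hd (v * w) = chLin P hd v * chLin P hd w := by
    intro a b v hv w hw
    obtain ⟨N, x, hx, hN, hNe, hch⟩ := chLin_of_eig P hd hP hv
    obtain ⟨M, y, hy, hM, hMe, hch'⟩ := chLin_of_eig P hd hP hw
    have he : (1 : ℚ) ⊗ₜ[ℤ] (x * y) ∈ eig P (a + b) := by
      have h1 : (1 : ℚ) ⊗ₜ[ℤ] x ∈ eig P a := hNe ▸ Submodule.smul_mem _ _ hv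
      have h2 : (1 : ℚ) ⊗ₜ[ℤ] y ∈ eig P b := hMe ▸ Submodule.smul_mem _ _ hw
      rw [eig, Module.End.mem_eigenspace_iff, psiQ_tmul, adams_mul P hP,
        show (1 : ℚ) ⊗ₜ[ℤ] (adams P 2 x * adams P 2 y) =
          ((1 : ℚ) ⊗ₜ[ℤ] adams P 2 x) * ((1 : ℚ) ⊗ₜ[ℤ] adams P 2 y) by
          rw [Algebra.TensorProduct.tmul_mul_tmul, one_mul],
        adams_of_eig P hd hP h1 2 (by omega), adams_of_eig P hd hP h2 2 (by omega), smul_mul_smul_comm,
        Algebra.TensorProduct.tmul_mul_tmul, one_mul, ← pow_add]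
      norm_num
    refine smul_right_injective _ (mul_ne_zero (Nat.cast_ne_zero.mpr hN) (Nat.cast_ne_zero.mpr hM) :
      ((N : ℚ) * M) ≠ 0) ?_
    dsimp only
    rw [← map_smul, ← smul_mul_smul_comm, hNe, hMe, Algebra.TensorProduct.tmul_mul_tmul, one_mul,
      chLin_tmul, chK_of_eig P hd hP (gf_mul P hx hy) he, ← cls_mul P hx hy, ← hch, ← hch',
      smul_mul_smul_comm]
  have htop := iSup_eig P hd hP
  have hv : v ∈ ⨆ m ∈ range (d + 1), eig P m := by rw [htop]; trivial
  have hw : w ∈ ⨆ m ∈ range (d + 1), eig P m := by rw [htop]; trivial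
  obtain ⟨c, rfl⟩ := (Submodule.mem_iSup_finset_iff_exists_sum _ _).mp hv
  obtain ⟨e, rfl⟩ := (Submodule.mem_iSup_finset_iff_exists_sum _ _).mp hw
  rw [sum_mul_sum, map_sum, map_sum, map_sum, sum_mul_sum]
  exact sum_congr rfl fun i _ => (map_sum _ _ _).trans
    (sum_congr rfl fun k _ => key i k _ (c i).2 _ (e k).2)

end KGrLib
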