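import Groth.Agent.KGrLib.Sigma
import Mathlib.Algebra.Polynomial.Div

/-! The annihilator of `1 - ℓ` in the elementary extension. -/

universe v

open LambdaRing LambdaSpLib Finset Polynomial

noncomputable section

namespace KGrLib

variable {K : Type v} [CommRing K] [LambdaOps K] (P : PosStructure K)

/-- Truncated alternating sums. -/
def altTrunc (e : K) (n : ℕ) : K := ∑ j ∈ range (n + 1), (-1 : K) ^ j * LambdaOps.lam j e

/-- `(p(T) - p(1))/(T - 1)`. -/
def quoPoly (e : K) (r : ℕ) : K[X] := ∑ k ∈ range (r + 1), C (altTrunc e (r - k)) * X ^ k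

theorem quoPoly_coeff_top (e : K) (r : ℕ) : (quoPoly e r).coeff r = 1 := by
  rw [quoPoly, finset_sum_coeff, sum_eq_single r]
  · simp [altTrunc, LambdaOps.lam_zero]
  · intro b _ hb; simp [Ne.symm hb]
  · intro h; simp at h

theorem natDegree_quoPoly (e : K) (r : ℕ) : (quoPoly e r).natDegree ≤ r := by
  refine natDegree_sum_le_of_forall_le _ _ fun k hk => (natDegree_C_mul_X_pow_le _ _).trans ?_
  simp only [mem_range] at hk
  omega

variable {e : K} {r : ℕ} (hr : P.aug e = r + 1)

include hr in
theorem toNat_aug_eq : (P.aug e).toNat = r + 1 := by omega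

include hr in
theorem extPoly_eq : KRR.extPoly P e =
    ∑ i ∈ range (r + 2), C ((-1 : K) ^ i * LambdaOps.lam i e) * X ^ (r + 1 - i) := by
  rw [KRR.extPoly, toNat_aug_eq P hr]

include hr in
theorem extPoly_coeff (n : ℕ) : (KRR.extPoly P e).coeff n =
    if n ≤ r + 1 then (-1 : K) ^ (r + 1 - n) * LambdaOps.lam (r + 1 - n) e else 0 := by
  rw [extPoly_eq P hr, finset_sum_coeff]
  simp only [coeff_C_mul_X_pow]
  split_ifs with h
  · rw [sum_eq_single (r + 1 - n)]
    · rw [if_pos (by omega)]
    · intro b hb hne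
      simp only [mem_range] at hb
      rw [if_neg (by omega)]
    · intro h'; simp at h'; omega
  · exact sum_eq_zero fun b _ => if_neg (by omega)

include hr in
theorem extPoly_monic : (KRR.extPoly P e).Monic :=
  monic_of_natDegree_le_of_coeff_eq_one (r + 1)
    (natDegree_le_iff_coeff_eq_zero.2 fun n hn => by rw [extPoly_coeff P hr, if_neg (by omega)])
    (by rw [extPoly_coeff P hr, if_pos le_rfl]; simp [LambdaOps.lam_zero])

include hr in
theorem natDegree_extPoly [Nontrivial K] : (KRR.extPoly P e).natDegree = r + 1 :=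
  natDegree_eq_of_le_of_coeff_ne_zero
    (natDegree_le_iff_coeff_eq_zero.2 fun n hn => by rw [extPoly_coeff P hr, if_neg (by omega)])
    (by rw [extPoly_coeff P hr, if_pos le_rfl]; simp [LambdaOps.lam_zero])

include hr in
theorem quoPoly_mul : quoPoly e r * (X - 1) = KRR.extPoly P e - C (altTrunc e (r + 1)) := by
  have hc : ∀ k, (quoPoly e r).coeff k = if k ≤ r then altTrunc e (r - k) else 0 := fun k => by
    rw [quoPoly, finset_sum_coeff]
    simp only [coeff_C_mul_X_pow]
    rw [Finset.sum_ite_eq]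
    simp [Nat.lt_succ_iff]
  ext n
  cases n with
  | zero =>
    rw [mul_coeff_zero, coeff_sub, coeff_sub, coeff_X_zero, coeff_one_zero, zero_sub, mul_neg, mul_one,
      hc, if_pos (Nat.zero_le _), coeff_C_zero, extPoly_coeff P hr, if_pos (Nat.zero_le _)]
    simp only [altTrunc, Nat.sub_zero]
    rw [sum_range_succ _ (r + 1)]
    ring
  | succ n =>
    rw [mul_sub, coeff_sub, coeff_mul_X, mul_one, hc, hc, coeff_sub, coeff_C_succ, sub_zero,
      extPoly_coeff P hr]
    by_cases h : n + 1 ≤ r
    · rw [if_pos (by omega), if_pos h, if_pos (by omega), show r - n = r - (n + 1) + 1 by omega,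
        show r + 1 - (n + 1) = r - (n + 1) + 1 by omega]
      simp only [altTrunc]
      rw [sum_range_succ _ (r - (n + 1) + 1)]
      ring
    · by_cases h2 : n = r
      · subst h2
        rw [if_pos le_rfl, if_neg h, if_pos le_rfl]
        simp [altTrunc, LambdaOps.lam_zero]
      · rw [if_neg (by omega), if_neg h, if_neg (by omega), sub_zero]

include hr in
theorem annihilator_eq (z : AdjoinRoot (KRR.extPoly P e))
    (hz : z * (1 - AdjoinRoot.root (KRR.extPoly P e)) = 0) :
    ∃ q : K, z = q • AdjoinRoot.mk (KRR.extPoly P e) (quoPoly e r) := by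
  rcases subsingleton_or_nontrivial K with hs | hs
  · exact ⟨0, (subsingleton_iff.1 (Function.Surjective.subsingleton AdjoinRoot.mk_surjective)) _ _⟩
  obtain ⟨Q0, hQ0⟩ := AdjoinRoot.mk_surjective z
  have hp := extPoly_monic P hr
  have hpd := natDegree_extPoly P hr
  set Q := Q0 %ₘ (KRR.extPoly P e)
  have hQ : AdjoinRoot.mk (KRR.extPoly P e) Q = AdjoinRoot.mk (KRR.extPoly P e) Q0 := by
    refine AdjoinRoot.mk_eq_mk.2 ⟨-(Q0 /ₘ (KRR.extPoly P e)), ?_⟩
    linear_combination modByMonic_add_div Q0 (KRR.extPoly P e)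
  have hQd : Q.natDegree ≤ r := by
    have hp1 : (KRR.extPoly P e) ≠ 1 := fun h => by
      rw [show KRR.extPoly P e = 1 from h] at hpd
      simp at hpd
    have h2 : Q.natDegree < (KRR.extPoly P e).natDegree := natDegree_modByMonic_lt Q0 hp hp1
    rw [hpd] at h2
    omega
  refine ⟨Q.coeff r, ?_⟩
  set q := Q.coeff r
  have hX : (X - 1 : K[X]).natDegree ≤ 1 := by
    rw [← C_1]; exact (natDegree_X_sub_C (1 : K)).le
  -- `Q (X - 1) - q (KRR.extPoly P e) = 0`
  have hR : Q * (X - 1) - C q * (KRR.extPoly P e) = 0 := by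
    have hdeg : (Q * (X - 1) - C q * (KRR.extPoly P e)).natDegree ≤ r := by
      refine natDegree_le_iff_coeff_eq_zero.2 fun n hn => ?_
      obtain ⟨m, rfl⟩ : ∃ m, n = m + 1 := ⟨n - 1, by omega⟩
      rw [coeff_sub, mul_sub, coeff_sub, coeff_mul_X, mul_one, coeff_C_mul, extPoly_coeff P hr,
        coeff_eq_zero_of_natDegree_lt (hQd.trans_lt hn), sub_zero]
      by_cases h : m = r
      · subst h; rw [if_pos le_rfl]; simp [LambdaOps.lam_zero, q]
      · rw [if_neg (by omega), mul_zero, sub_zero, coeff_eq_zero_of_natDegree_lt (by omega)]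
    by_contra hne
    refine hp.not_dvd_of_natDegree_lt hne (by omega) ?_
    rw [← AdjoinRoot.mk_eq_zero, map_sub, map_mul, map_mul, map_sub, map_one, AdjoinRoot.mk_self,
      AdjoinRoot.mk_X, mul_zero, sub_zero, hQ, hQ0]
    linear_combination -hz
  have hG := quoPoly_mul P hr
  have h0 : Q - C q * quoPoly e r = 0 := by
    have e1 : (Q - C q * quoPoly e r) * (X - 1) = C (q * altTrunc e (r + 1)) := by
      rw [sub_mul, mul_assoc, hG, C_mul]
      linear_combination hR
    by_contra hne
    have hm : (X - 1 : K[X]).Monic := by rw [← C_1]; exact monic_X_sub_C 1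
    have h1 := congrArg natDegree e1
    rw [mul_comm, hm.natDegree_mul' hne, natDegree_C, ← C_1, natDegree_X_sub_C] at h1
    omega
  rw [← hQ0, ← hQ, sub_eq_zero.1 h0, map_mul, AdjoinRoot.mk_C, Algebra.smul_def, AdjoinRoot.algebraMap_eq]

end KGrLib
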