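import Groth.Agent.LambdaSpL.PosFil
import Groth.Agent.LambdaSpL.PosInv

/-! The determinant of a λ-ring with positive structure. -/

universe v

open LambdaRing LambdaSpLib Finset

noncomputable section

namespace KGrLib

variable {K : Type v} [CommRing K] [LambdaOps K] (P : PosStructure K)

theorem sum_esymm_eq_prod {B : Type v} [CommRing B] (s : Multiset B) :
    ∑ i ∈ range (s.card + 1), s.esymm i = (s.map fun a => 1 + a).prod := by
  induction s using Multiset.induction_on with
  | empty => simp [Multiset.esymm]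
  | cons a s ih =>
    rw [Multiset.card_cons, Multiset.map_cons, Multiset.prod_cons, ← ih, sum_range_succ']
    simp only [esymm_cons_succ, esymm_zero']
    rw [sum_add_distrib, ← mul_sum, sum_range_succ' (fun i => s.esymm i) s.card,
      sum_range_succ (fun i => s.esymm (i + 1)) s.card, esymm_eq_zero_of_card_lt s (Nat.lt_succ_self _),
      esymm_zero']
    ring

/-- The determinant of a positive element. -/
def det (e : K) (he : e ∈ P.pos) : Additive Kˣ := Additive.ofMul (P.isUnit_lam e he).unit

theorem det_val (e : K) (he : e ∈ P.pos) :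
    ((Additive.toMul (det P e he) : Kˣ) : K) = LambdaOps.lam (P.aug e).toNat e := rfl

theorem det_ext {a b : Additive Kˣ}
    (h : ((Additive.toMul a : Kˣ) : K) = ((Additive.toMul b : Kˣ) : K)) : a = b :=
  congrArg Additive.ofMul (Units.ext h)

theorem lam_top_sum_lines {s : Multiset K} (hs : ∀ u ∈ s, P.IsLine u) {e : K} (h : s.sum = e) :
    LambdaOps.lam (P.aug e).toNat e = s.prod := by
  rw [card_of_sum hs h, ← h, lam_sum_lines (fun u hu => line_lam (hs u hu)), esymm_card]

variable (hP : HasSplitting K P)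

include hP in
theorem det_add {e f : K} (he : e ∈ P.pos) (hf : f ∈ P.pos) :
    det P (e + f) (P.add_mem e f he hf) = det P e he + det P f hf := by
  refine det_ext ?_
  change LambdaOps.lam _ (e + f) = LambdaOps.lam _ e * LambdaOps.lam _ f
  obtain ⟨L, g, hg, -, h⟩ := exists_split P hP [e, f] (by simp [he, hf])
  obtain ⟨s, hs, hse⟩ := h e (by simp)
  obtain ⟨t, ht, htf⟩ := h f (by simp)
  apply hg.injective
  rw [map_mul, hg.isLambdaHom, hg.isLambdaHom, hg.isLambdaHom, ← hg.aug_comp, ← hg.aug_comp e,
    ← hg.aug_comp f, lam_top_sum_lines _ hs hse, lam_top_sum_lines _ ht htf,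
    lam_top_sum_lines L.posStr (s := s + t) (fun u hu => (Multiset.mem_add.1 hu).elim (hs u) (ht u))
      (by rw [Multiset.sum_add, hse, htf, map_add]), Multiset.prod_add]

include hP in
theorem det_mul {e f : K} (he : e ∈ P.pos) (hf : f ∈ P.pos) :
    det P (e * f) (P.mul_mem e f he hf) = P.aug f • det P e he + P.aug e • det P f hf := by
  obtain ⟨L, g, hg, -, h⟩ := exists_split P hP [e, f] (by simp [he, hf])
  obtain ⟨s, hs, hse⟩ := h e (by simp)
  obtain ⟨t, ht, htf⟩ := h f (by simp)
  have hce := card_of_sum hs hse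
  have hcf := card_of_sum ht htf
  rw [hg.aug_comp] at hce hcf
  have ee : P.aug e = ((s.card : ℕ) : ℤ) := by have := P.aug_pos e he; omega
  have ef : P.aug f = ((t.card : ℕ) : ℤ) := by have := P.aug_pos f hf; omega
  rw [ee, ef, natCast_zsmul, natCast_zsmul]
  refine det_ext ?_
  change LambdaOps.lam _ (e * f) = LambdaOps.lam _ e ^ t.card * LambdaOps.lam _ f ^ s.card
  apply hg.injective
  have hst : ∀ u ∈ s.bind (fun a => t.map fun b => a * b), L.posStr.IsLine u := by
    intro u hu
    simp only [Multiset.mem_bind, Multiset.mem_map] at hu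
    obtain ⟨a, ha, b, hb, rfl⟩ := hu
    exact line_mul (hs a ha) (ht b hb)
  have hsum : (s.bind fun a => t.map fun b => a * b).sum = g (e * f) := by
    rw [Multiset.sum_bind, Multiset.map_congr rfl fun a _ => Multiset.sum_map_mul_left,
      Multiset.map_id', Multiset.sum_map_mul_right, Multiset.map_id', hse, htf, map_mul]
  rw [map_mul g, map_pow g, map_pow g, hg.isLambdaHom, hg.isLambdaHom, hg.isLambdaHom,
    ← hg.aug_comp, ← hg.aug_comp e, ← hg.aug_comp f, lam_top_sum_lines _ hs hse,
    lam_top_sum_lines _ ht htf, lam_top_sum_lines _ hst hsum, Multiset.prod_bind]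
  rw [Multiset.map_congr rfl (g := fun a => a ^ t.card * t.prod) fun a _ => by
      rw [Multiset.prod_map_mul, Multiset.map_const', Multiset.prod_replicate, Multiset.map_id'],
    Multiset.prod_map_mul, Multiset.prod_map_pow, Multiset.map_const', Multiset.prod_replicate,
    Multiset.map_id']

/-- The determinant of an element. -/
def D (x : K) : Additive Kˣ :=
  det P _ (P.exists_sub x).choose_spec.choose_spec.1 -
    det P _ (P.exists_sub x).choose_spec.choose_spec.2.1

theorem det_congr {e e' : K} (h : e = e') (he : e ∈ P.pos) (he' : e' ∈ P.pos) :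
    det P e he = det P e' he' := by subst h; rfl

include hP in
theorem D_eq {x e f : K} (he : e ∈ P.pos) (hf : f ∈ P.pos) (hx : x = e - f) :
    D P x = det P e he - det P f hf := by
  have h1 := (P.exists_sub x).choose_spec.choose_spec.1
  have h2 := (P.exists_sub x).choose_spec.choose_spec.2.1
  have h3 := (P.exists_sub x).choose_spec.choose_spec.2.2
  set a := (P.exists_sub x).choose with ha
  set b := (P.exists_sub x).choose_spec.choose with hb
  have h4 : a + f = e + b := by
    have h5 : a - b = e - f := h3.symm.trans hx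
    linear_combination h5
  have h6 := det_congr P h4 (P.add_mem _ _ h1 hf) (P.add_mem _ _ he h2)
  rw [det_add P hP h1 hf, det_add P hP he h2] at h6
  change det P a h1 - det P b h2 = _
  rwa [sub_eq_sub_iff_add_eq_add]

include hP in
theorem D_add (x y : K) : D P (x + y) = D P x + D P y := by
  obtain ⟨e, f, he, hf, rfl⟩ := P.exists_sub x
  obtain ⟨e', f', he', hf', rfl⟩ := P.exists_sub y
  rw [D_eq P hP he hf rfl, D_eq P hP he' hf' rfl, D_eq P hP (P.add_mem _ _ he he')
    (P.add_mem _ _ hf hf') (by ring), det_add P hP he he', det_add P hP hf hf']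
  abel

/-- The determinant as a homomorphism. -/
def Dhom : K →+ Additive Kˣ := AddMonoidHom.mk' (D P) (D_add P hP)

include hP in
theorem D_pos {e : K} (he : e ∈ P.pos) : D P e = det P e he := by
  rw [D_eq P hP (P.add_mem _ _ he he) he (by ring), det_add P hP he he, add_sub_cancel_right]

include hP in
theorem D_line {u : K} (hu : P.IsLine u) : ((Additive.toMul (D P u) : Kˣ) : K) = u := by
  rw [D_pos P hP hu.1, det_val, hu.2]
  exact LambdaOps.lam_one u

include hP in
theorem D_mul (x y : K) : D P (x * y) = P.aug y • D P x + P.aug x • D P y := by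
  obtain ⟨e, f, he, hf, rfl⟩ := P.exists_sub x
  obtain ⟨e', f', he', hf', rfl⟩ := P.exists_sub y
  rw [show (e - f) * (e' - f') = (e * e' - e * f') - (f * e' - f * f') by ring]
  change Dhom P hP _ = _ • Dhom P hP _ + _ • Dhom P hP _
  simp only [map_sub]
  change D P _ - D P _ - (D P _ - D P _) = _ • (D P _ - D P _) + _ • (D P _ - D P _)
  rw [D_pos P hP (P.mul_mem _ _ he he'), D_pos P hP (P.mul_mem _ _ he hf'),
    D_pos P hP (P.mul_mem _ _ hf he'), D_pos P hP (P.mul_mem _ _ hf hf'), D_pos P hP he, D_pos P hP hf,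
    D_pos P hP he', D_pos P hP hf', det_mul P hP he he', det_mul P hP he hf', det_mul P hP hf he', det_mul P hP hf hf']
  simp only [sub_smul, smul_sub]
  abel

include hP in
theorem D_mul_zero {x y : K} (hx : P.aug x = 0) (hy : P.aug y = 0) : D P (x * y) = 0 := by
  rw [D_mul P hP, hx, hy, zero_smul, zero_smul, add_zero]

/-- The property proved by induction on line decompositions. -/
def GoodG (x : K) : Prop :=
  (∀ r, 1 ≤ r → P.aug (gamma r x) = 0) ∧ ∀ r, 2 ≤ r → D P (gamma r x) = 0

theorem gamma_line {u : K} (hu : P.IsLine u) (j : ℕ) (hj : 2 ≤ j) : gamma j (u - 1) = 0 := by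
  have := gamma_sub_rank_eq_zero (lam_one_arg P) (d := 1) (N := u)
    (fun i hi => line_lam hu i (by omega)) (k := j) (by omega)
  simpa using this

theorem gamma_add_line {u : K} (hu : P.IsLine u) (x : K) (r : ℕ) :
    gamma (r + 1) (x + (u - 1)) = gamma (r + 1) x + (u - 1) * gamma r x := by
  rw [gamma_add, sum_range_succ, sum_range_succ, sum_eq_zero fun i hi => by
      simp only [mem_range] at hi
      rw [gamma_line P hu _ (by omega), mul_zero],
    zero_add, Nat.sub_self, gamma_zero, mul_one, show r + 1 - r = 1 by omega, gamma_one]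
  ring

include hP in
theorem good_add_line {u : K} (hu : P.IsLine u) {x : K} (hx : GoodG P x) :
    GoodG P (x + (u - 1)) := by
  have hw : P.aug (u - 1) = 0 := by rw [map_sub, hu.2, map_one, sub_self]
  constructor
  · intro r hr
    obtain ⟨r, rfl⟩ : ∃ m, r = m + 1 := ⟨r - 1, by omega⟩
    rw [gamma_add_line P hu, map_add, map_mul, hx.1 _ (by omega), hw, zero_mul, add_zero]
  · intro r hr
    obtain ⟨r, rfl⟩ : ∃ m, r = m + 1 := ⟨r - 1, by omega⟩
    rw [gamma_add_line P hu, D_add P hP, hx.2 _ hr, D_mul_zero P hP hw (hx.1 r (by omega)), add_zero]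

include hP in
theorem good_sub_line {u : K} (hu : P.IsLine u) {x : K} (hx : GoodG P x) :
    GoodG P (x - (u - 1)) := by
  have hw : P.aug (u - 1) = 0 := by rw [map_sub, hu.2, map_one, sub_self]
  have e : ∀ r, gamma (r + 1) x = gamma (r + 1) (x - (u - 1)) + (u - 1) * gamma r (x - (u - 1)) :=
    fun r => by rw [← gamma_add_line P hu, sub_add_cancel]
  have h1 : ∀ r, 1 ≤ r → P.aug (gamma r (x - (u - 1))) = 0 := by
    intro r hr
    obtain ⟨r, rfl⟩ : ∃ m, r = m + 1 := ⟨r - 1, by omega⟩
    have := congrArg P.aug (e r)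
    rw [map_add, map_mul, hx.1 _ (by omega), hw, zero_mul, add_zero] at this
    exact this.symm
  refine ⟨h1, fun r hr => ?_⟩
  obtain ⟨r, rfl⟩ : ∃ m, r = m + 1 := ⟨r - 1, by omega⟩
  have := congrArg (D P) (e r)
  rw [D_add P hP, hx.2 _ hr, D_mul_zero P hP hw (h1 r (by omega)), add_zero] at this
  exact this.symm

include hP in
theorem good_zero : GoodG P (0 : K) := by
  constructor <;> intro r hr <;> rw [gamma_zero_arg r (by omega)]
  · exact map_zero _
  · exact map_zero (Dhom P hP)

theorem D_map {L : Type v} [CommRing L] [LambdaOps L] (Q : PosStructure L) (hQ : HasSplitting L Q)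
    {g : K →+* L} (hg : IsExtension P Q g) (hP : HasSplitting K P) (x : K) :
    ((Additive.toMul (D Q (g x)) : Lˣ) : L) = g ((Additive.toMul (D P x) : Kˣ) : K) := by
  obtain ⟨e, f, he, hf, rfl⟩ := P.exists_sub x
  have key : ∀ (a : K) (ha : a ∈ P.pos), Units.map (g : K →* L) (Additive.toMul (det P a ha)) =
      Additive.toMul (det Q (g a) (hg.pos_subset a ha)) := fun a ha => Units.ext (by
    change g (LambdaOps.lam _ a) = LambdaOps.lam _ (g a)
    rw [hg.isLambdaHom, hg.aug_comp])
  rw [D_eq P hP he hf rfl, D_eq Q hQ (hg.pos_subset e he) (hg.pos_subset f hf) (map_sub g e f)]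
  rw [toMul_sub, toMul_sub, ← key e he, ← key f hf, ← map_div]
  rfl

include hP in
theorem good {x : K} (hx : P.aug x = 0) : GoodG P x := by
  obtain ⟨e, f, he, hf, rfl⟩ := P.exists_sub x
  obtain ⟨L, g, hg, hL, h⟩ := exists_split P hP [e, f] (by simp [he, hf])
  obtain ⟨s, hs, hse⟩ := h e (by simp)
  obtain ⟨t, ht, htf⟩ := h f (by simp)
  have h1 : ∀ s : Multiset L.carrier, (∀ u ∈ s, L.posStr.IsLine u) →
      GoodG L.posStr (s.sum - (s.card : L.carrier)) := by
    intro s hs
    induction s using Multiset.induction_on with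
    | empty => simpa using good_zero L.posStr hL
    | cons a s ih =>
      have := good_add_line L.posStr hL (hs a (Multiset.mem_cons_self a s))
        (ih fun u hu => hs u (Multiset.mem_cons_of_mem hu))
      rw [Multiset.sum_cons, Multiset.card_cons, Nat.cast_succ,
        show a + s.sum - ((s.card : L.carrier) + 1) = s.sum - (s.card : L.carrier) + (a - 1) by ring]
      exact this
  have h2 : ∀ t : Multiset L.carrier, (∀ u ∈ t, L.posStr.IsLine u) → ∀ y, GoodG L.posStr y →
      GoodG L.posStr (y - (t.sum - (t.card : L.carrier))) := by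
    intro t ht
    induction t using Multiset.induction_on with
    | empty => intro y hy; simpa using hy
    | cons a t ih =>
      intro y hy
      have := ih (fun u hu => ht u (Multiset.mem_cons_of_mem hu)) _
        (good_sub_line L.posStr hL (ht a (Multiset.mem_cons_self a t)) hy)
      rw [Multiset.sum_cons, Multiset.card_cons, Nat.cast_succ,
        show y - (a + t.sum - ((t.card : L.carrier) + 1)) =
          y - (a - 1) - (t.sum - (t.card : L.carrier)) by ring]
      exact this
  have hcard : (s.card : ℤ) = t.card := by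
    rw [← aug_sum_lines hs, ← aug_sum_lines ht, hse, htf, hg.aug_comp, hg.aug_comp]
    rwa [map_sub, sub_eq_zero] at hx
  have hG : GoodG L.posStr (g (e - f)) := by
    have := h2 t ht _ (h1 s hs)
    rw [map_sub, ← hse, ← htf]
    rw [Nat.cast_inj.1 hcard, sub_sub_sub_cancel_right] at this
    exact this
  refine ⟨fun r hr => ?_, fun r hr => ?_⟩
  · rw [← hg.aug_comp, gamma_map hg.isLambdaHom]
    exact hG.1 r hr
  · refine det_ext (hg.injective ?_)
    rw [← D_map P L.posStr hL hg hP, gamma_map hg.isLambdaHom, hG.2 r hr]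
    simp

include hP in
theorem aug_eq_zero_and_D {n : ℕ} (hn : 1 ≤ n) {x : K} (hx : x ∈ gammaFiltration P n) :
    P.aug x = 0 ∧ (2 ≤ n → D P x = 0) := by
  refine gf_induction P (by omega) (p := fun x => P.aug x = 0 ∧ (2 ≤ n → D P x = 0)) ?_ ?_ ?_ ?_ hx
  · intro l hl hs
    suffices h : ∀ l : List (ℕ × K), (∀ q ∈ l, P.aug q.2 = 0) →
        ((l.map Prod.fst).sum = 0 → (l.map fun q => gamma q.1 q.2).prod = 1) ∧
        (1 ≤ (l.map Prod.fst).sum → P.aug (l.map fun q => gamma q.1 q.2).prod = 0) ∧
        (2 ≤ (l.map Prod.fst).sum → D P (l.map fun q => gamma q.1 q.2).prod = 0) from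
      ⟨(h l hl).2.1 (hn.trans hs), fun h2 => (h l hl).2.2 (h2.trans hs)⟩
    intro l
    induction l with
    | nil => intro _; simp
    | cons q l ih =>
      intro hq
      obtain ⟨i0, i1, i2⟩ := ih fun a ha => hq a (List.mem_cons_of_mem _ ha)
      have hgood := good P hP (hq q List.mem_cons_self)
      simp only [List.map_cons, List.sum_cons, List.prod_cons]
      rcases Nat.eq_zero_or_pos q.1 with h0 | h0
      · rw [h0, gamma_zero, one_mul, zero_add]
        exact ⟨i0, i1, i2⟩
      · refine ⟨fun h => absurd h (by omega), fun _ => by rw [map_mul, hgood.1 _ h0, zero_mul], fun h => ?_⟩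
        rcases Nat.eq_zero_or_pos (l.map Prod.fst).sum with h1 | h1
        · rw [i0 h1, mul_one]; exact hgood.2 _ (by omega)
        · exact D_mul_zero P hP (hgood.1 _ h0) (i1 h1)
  · exact ⟨map_zero _, fun _ => map_zero (Dhom P hP)⟩
  · intro a b ha hb
    exact ⟨by rw [map_add, ha.1, hb.1, add_zero],
      fun h => by rw [D_add P hP, ha.2 h, hb.2 h, add_zero]⟩
  · intro a ha
    exact ⟨by rw [map_neg, ha.1, neg_zero], fun h => by
      change Dhom P hP (-a) = 0
      rw [map_neg]; exact neg_eq_zero.2 (ha.2 h)⟩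

include hP in
theorem det_sub_mem {e : K} (he : e ∈ P.pos) :
    LambdaOps.lam (P.aug e).toNat e - 1 - (e - ((P.aug e).toNat : K)) ∈ gammaFiltration P 2 := by
  obtain ⟨L, g, hg, -, h⟩ := exists_split P hP [e] (by simp [he])
  obtain ⟨s, hs, hse⟩ := h e (by simp)
  set n := (P.aug e).toNat with hn'
  have hn : n = s.card := by rw [← card_of_sum hs hse, hg.aug_comp]
  have key : LambdaOps.lam n e = ∑ i ∈ range (n + 1), gamma i (e - (n : K)) := by
    apply hg.injective
    have h3 : n = (L.posStr.aug (g e)).toNat := by rw [hg.aug_comp]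
    rw [hg.isLambdaHom, map_sum, h3, lam_top_sum_lines _ hs hse, ← h3]
    simp only [gamma_map hg.isLambdaHom, map_sub, map_natCast, hn, ← hse,
      gamma_sum_lines (lam_one_arg L.posStr) fun u hu => line_lam (hs u hu)]
    have := sum_esymm_eq_prod (s.map fun u => u - 1)
    rw [Multiset.card_map, Multiset.map_map] at this
    rw [this]
    congr 1
    exact (Multiset.map_id' s).symm.trans (Multiset.map_congr rfl fun u _ => by simp)
  have hn1 : 1 ≤ n := by have := P.aug_pos e he; omega
  have haug : P.aug (e - (n : K)) = 0 := by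
    rw [map_sub, map_natCast, hn', Int.toNat_of_nonneg (P.aug_pos e he).le, sub_self]
  obtain ⟨m, hm⟩ : ∃ m, n = m + 1 := ⟨n - 1, by omega⟩
  rw [key, hm, sum_range_succ', sum_range_succ']
  rw [← hm, gamma_zero, show 0 + 1 = 1 from rfl, gamma_one, add_sub_cancel_right, add_sub_cancel_right]
  exact sum_mem fun i _ => gf_anti P (by omega) (gamma_mem_gf P haug (i + 1 + 1))

end KGrLib
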