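import Groth.Prelude.Def_KGr
import Groth.Agent.LambdaSpL.PosEigen

/-! The associated graded ring of the γ-filtration: monomials, classes and components. -/

universe v

open LaurentPolynomial LambdaRing LambdaSpLib
open scoped TensorProduct

noncomputable section

namespace KGrLib

variable {K : Type v} [CommRing K] [LambdaOps K] (P : PosStructure K)

/-- Admissible coefficient in exponent `m`. -/
def Adm (m : ℤ) (x : K) : Prop := ∀ n : ℕ, m = -(n : ℤ) → x ∈ gammaFiltration P n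

theorem adm_mul {m m' : ℤ} {x y : K} (hx : Adm P m x) (hy : Adm P m' y) : Adm P (m + m') (x * y) := by
  intro n hn
  rcases le_or_gt m 0 with hm | hm
  · obtain ⟨a, ha⟩ : ∃ a : ℕ, m = -(a : ℤ) := ⟨(-m).toNat, by omega⟩
    rcases le_or_gt m' 0 with hm' | hm'
    · obtain ⟨b, hb⟩ : ∃ b : ℕ, m' = -(b : ℤ) := ⟨(-m').toNat, by omega⟩
      rw [show n = a + b by omega]
      exact gf_mul P (hx a ha) (hy b hb)
    · rw [mul_comm]
      exact gf_smul_mem P n y (gf_anti P (by omega) (hx a ha))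
  · obtain ⟨b, hb⟩ : ∃ b : ℕ, m' = -(b : ℤ) := ⟨(-m').toNat, by omega⟩
    exact gf_smul_mem P n x (gf_anti P (by omega) (hy b hb))

/-- The additive span of admissible monomials. -/
def span : AddSubgroup (LaurentPolynomial K) :=
  AddSubgroup.closure {p | ∃ m x, Adm P m x ∧ p = C x * T m}

theorem mul_mem_span {p q : LaurentPolynomial K} (hp : p ∈ span P) (hq : q ∈ span P) :
    p * q ∈ span P := by
  induction hp using AddSubgroup.closure_induction with
  | mem p hp =>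
    obtain ⟨m, x, hx, rfl⟩ := hp
    induction hq using AddSubgroup.closure_induction with
    | mem q hq =>
      obtain ⟨m', y, hy, rfl⟩ := hq
      exact AddSubgroup.subset_closure ⟨m + m', x * y, adm_mul P hx hy, by rw [map_mul, T_add]; ring⟩
    | zero => rw [mul_zero]; exact zero_mem _
    | add a b _ _ ha hb => rw [mul_add]; exact add_mem ha hb
    | neg a _ ha => rw [mul_neg]; exact neg_mem ha
  | zero => rw [zero_mul]; exact zero_mem _
  | add a b _ _ ha hb => rw [add_mul]; exact add_mem ha hb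
  | neg a _ ha => rw [neg_mul]; exact neg_mem ha

theorem mem_span_of_mem_rees {p : LaurentPolynomial K} (hp : p ∈ KGr.rees P) : p ∈ span P := by
  induction hp using Subring.closure_induction with
  | mem p hp =>
    rcases hp with rfl | ⟨n, x, hx, rfl⟩
    · exact AddSubgroup.subset_closure ⟨1, 1, fun n hn => absurd hn (by omega), by simp⟩
    · exact AddSubgroup.subset_closure ⟨-n, x, fun n' hn' => by
        rw [show n' = n by omega]; exact hx, rfl⟩
  | zero => exact zero_mem _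
  | one => exact AddSubgroup.subset_closure ⟨0, 1, fun n hn => by
      rw [show n = 0 by omega, gf_zero]; trivial, by simp⟩
  | add a b _ _ ha hb => exact add_mem ha hb
  | neg a _ ha => exact neg_mem ha
  | mul a b _ _ ha hb => exact mul_mem_span P ha hb

theorem mono_mem {n : ℕ} {x : K} (hx : x ∈ gammaFiltration P n) :
    C x * T (-(n : ℤ)) ∈ KGr.rees P :=
  Subring.subset_closure (Set.mem_insert_of_mem _ ⟨n, x, hx, rfl⟩)

theorem coeff_mem {p : LaurentPolynomial K} (hp : p ∈ KGr.rees P) (n : ℕ) :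
    p.coeff (-(n : ℤ)) ∈ gammaFiltration P n := by
  replace hp := mem_span_of_mem_rees P hp
  induction hp using AddSubgroup.closure_induction with
  | mem p hp =>
    obtain ⟨m, x, hx, rfl⟩ := hp
    rw [← single_eq_C_mul_T, AddMonoidAlgebra.coeff_single, Finsupp.single_apply]
    split_ifs with h
    · exact hx n h
    · exact zero_mem _
  | zero => simp
  | add a b _ _ ha hb => simpa using add_mem ha hb
  | neg a _ ha => simpa using ha

/-- The class in degree `n` of an element of `F^n`. -/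
def cls (n : ℕ) : gammaFiltration P n →+ KGr.Gr P :=
  AddMonoidHom.mk' (fun x => (1 : ℚ) ⊗ₜ[ℤ] (Ideal.Quotient.mk (Ideal.span {KGr.tGen P})
    (⟨C x.1 * T (-(n : ℤ)), mono_mem P x.2⟩ : KGr.rees P))) fun x y => by
    rw [← TensorProduct.tmul_add, ← map_add]
    congr 2
    exact Subtype.ext (by simp [add_mul])

theorem cls_apply {n : ℕ} {x : K} (hx : x ∈ gammaFiltration P n) :
    cls P n ⟨x, hx⟩ = (1 : ℚ) ⊗ₜ[ℤ] (Ideal.Quotient.mk (Ideal.span {KGr.tGen P})
      (⟨C x * T (-(n : ℤ)), mono_mem P hx⟩ : KGr.rees P)) := rfl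

theorem cls_eq_zero {n : ℕ} {x : K} (hx : x ∈ gammaFiltration P n)
    (h : x ∈ gammaFiltration P (n + 1)) : cls P n ⟨x, hx⟩ = 0 := by
  rw [cls_apply]
  have : (⟨C x * T (-(n : ℤ)), mono_mem P hx⟩ : KGr.rees P) =
      KGr.tGen P * ⟨C x * T (-((n + 1 : ℕ) : ℤ)), mono_mem P h⟩ := Subtype.ext (by
    change _ = T 1 * (C x * T (-((n + 1 : ℕ) : ℤ)))
    rw [mul_left_comm, ← T_add]
    simp only [Nat.cast_add, Nat.cast_one, neg_add_rev, add_neg_cancel_left])
  rw [this, Ideal.Quotient.eq_zero_iff_mem.mpr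
    (Ideal.mul_mem_right _ _ (Ideal.mem_span_singleton_self _)), TensorProduct.tmul_zero]

theorem cls_mul {a b : ℕ} {x y : K} (hx : x ∈ gammaFiltration P a) (hy : y ∈ gammaFiltration P b) :
    cls P a ⟨x, hx⟩ * cls P b ⟨y, hy⟩ = cls P (a + b) ⟨x * y, gf_mul P hx hy⟩ := by
  rw [cls_apply, cls_apply, cls_apply, Algebra.TensorProduct.tmul_mul_tmul, one_mul, ← map_mul]
  congr 2
  refine Subtype.ext ?_
  change C x * T (-(a : ℤ)) * (C y * T (-(b : ℤ))) = C (x * y) * T (-((a + b : ℕ) : ℤ))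
  rw [map_mul, mul_mul_mul_comm, ← T_add, Nat.cast_add, neg_add]

theorem cls_one (h : (1 : K) ∈ gammaFiltration P 0) : cls P 0 ⟨1, h⟩ = 1 := by
  rw [cls_apply, Algebra.TensorProduct.one_def]
  congr 1
  refine (congrArg _ (Subtype.ext ?_ : _ = (1 : KGr.rees P))).trans (map_one _)
  simp

theorem cls_torsion {n N : ℕ} (hN : N ≠ 0) {x : K} (hx : x ∈ gammaFiltration P n)
    (h : (N : K) * x = 0) : cls P n ⟨x, hx⟩ = 0 := by
  have h0 : N • (⟨x, hx⟩ : gammaFiltration P n) = 0 := Subtype.ext (by simpa [nsmul_eq_mul] using h)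
  have := congrArg (cls P n) h0
  rw [map_nsmul, map_zero, ← Nat.cast_smul_eq_nsmul ℚ] at this
  exact (smul_eq_zero.mp this).resolve_left (Nat.cast_ne_zero.mpr hN)

theorem grK_eq {n : ℕ} {x : K} (hx : x ∈ gammaFiltration P n) :
    KGr.grK P (n : ℤ) x = cls P n ⟨x, hx⟩ := by
  have h : ∃ N : ℕ, 1 ≤ N ∧ C ((N : K) * x) * T (-(n : ℤ)) ∈ KGr.rees P :=
    ⟨1, le_rfl, by rw [Nat.cast_one, one_mul]; exact mono_mem P hx⟩
  rw [KGr.grK, dif_pos h, cls_apply]
  have hmk : (⟨C ((h.choose : K) * x) * T (-(n : ℤ)), h.choose_spec.2⟩ : KGr.rees P) =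
      (h.choose : KGr.rees P) * ⟨C x * T (-(n : ℤ)), mono_mem P hx⟩ := Subtype.ext (by
    simp [mul_assoc])
  rw [hmk, map_mul, map_natCast, ← nsmul_eq_mul, TensorProduct.tmul_smul, TensorProduct.smul_tmul']
  congr 1
  have : (h.choose : ℚ) ≠ 0 := by have := h.choose_spec.1; positivity
  rw [nsmul_eq_mul]
  field_simp

/-- The component in degree `n`. -/
def qMk (n : ℕ) : K →+ (ℚ ⊗[ℤ] K) ⧸ qF P (n + 1) :=
  (qF P (n + 1)).mkQ.toAddMonoidHom.comp
    (AddMonoidHom.mk' (fun x : K => (1 : ℚ) ⊗ₜ[ℤ] x) fun a b => TensorProduct.tmul_add _ a b)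

/-- The component in degree `n`, on the Rees ring. -/
def compRees (n : ℕ) : KGr.rees P →+ (ℚ ⊗[ℤ] K) ⧸ qF P (n + 1) :=
  (qMk P n).comp (AddMonoidHom.mk' (fun p : KGr.rees P => p.1.coeff (-(n : ℤ))) fun a b => by simp)

theorem compRees_t_mul (n : ℕ) (q : KGr.rees P) : compRees P n (KGr.tGen P * q) = 0 := by
  refine (Submodule.Quotient.mk_eq_zero _).mpr (tmul_mem_qF P ?_ 1)
  change (T 1 * q.1 : LaurentPolynomial K).coeff (-(n : ℤ)) ∈ _
  have := coeff_mem P q.2 (n + 1)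
  rw [T, AddMonoidAlgebra.coeff_single_mul_apply, one_mul]
  convert this using 3
  omega

/-- The component in degree `n`, on `Gr`. -/
def compZ (n : ℕ) : KGr.GrZ P →+ (ℚ ⊗[ℤ] K) ⧸ qF P (n + 1) :=
  QuotientAddGroup.lift (Ideal.span {KGr.tGen P}).toAddSubgroup (compRees P n) fun q hq => by
    obtain ⟨r, rfl⟩ := Ideal.mem_span_singleton.mp hq
    exact compRees_t_mul P n r

/-- The component in degree `n`, on `ℚ Gr`. -/
def comp (n : ℕ) : KGr.Gr P →ₗ[ℚ] (ℚ ⊗[ℤ] K) ⧸ qF P (n + 1) :=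
  LinearMap.liftBaseChange ℚ (compZ P n).toIntLinearMap

theorem comp_cls (n : ℕ) {m : ℕ} {x : K} (hx : x ∈ gammaFiltration P m) :
    comp P n (cls P m ⟨x, hx⟩) =
      if m = n then (qF P (n + 1)).mkQ ((1 : ℚ) ⊗ₜ[ℤ] x) else 0 := by
  rw [cls_apply, comp, LinearMap.liftBaseChange_tmul, one_smul]
  change qMk P n ((C x * T (-(m : ℤ)) : LaurentPolynomial K).coeff (-(n : ℤ))) = _
  rw [← single_eq_C_mul_T, AddMonoidAlgebra.coeff_single, Finsupp.single_apply]
  by_cases h : m = n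
  · rw [if_pos (by omega), if_pos h]; rfl
  · rw [if_neg (by omega), if_neg h, map_zero]

theorem span_cls_eq_top :
    Submodule.span ℚ {z : KGr.Gr P | ∃ (n : ℕ) (x : K) (hx : x ∈ gammaFiltration P n),
      z = cls P n ⟨x, hx⟩} = ⊤ := by
  refine eq_top_iff.2 fun z _ => ?_
  induction z using TensorProduct.induction_on with
  | zero => exact zero_mem _
  | add a b ha hb => exact add_mem (ha trivial) (hb trivial)
  | tmul q g =>
    rw [show q ⊗ₜ[ℤ] g = q • ((1 : ℚ) ⊗ₜ[ℤ] g) by rw [TensorProduct.smul_tmul', smul_eq_mul, mul_one]]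
    refine Submodule.smul_mem _ _ ?_
    obtain ⟨⟨p, hp⟩, rfl⟩ := Ideal.Quotient.mk_surjective g
    suffices ∀ p ∈ span P, ∃ hp : p ∈ KGr.rees P, (1 : ℚ) ⊗ₜ[ℤ]
        (Ideal.Quotient.mk (Ideal.span {KGr.tGen P}) (⟨p, hp⟩ : KGr.rees P)) ∈ Submodule.span ℚ
        {z : KGr.Gr P | ∃ (n : ℕ) (x : K) (hx : x ∈ gammaFiltration P n), z = cls P n ⟨x, hx⟩} from
      (this p (mem_span_of_mem_rees P hp)).2
    intro p hp
    induction hp using AddSubgroup.closure_induction with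
    | mem p hp =>
      obtain ⟨m, x, hx, rfl⟩ := hp
      rcases le_or_gt m 0 with hm | hm
      · obtain ⟨n, rfl⟩ : ∃ n : ℕ, m = -(n : ℤ) := ⟨(-m).toNat, by omega⟩
        exact ⟨mono_mem P (hx n rfl), Submodule.subset_span ⟨n, x, hx n rfl, rfl⟩⟩
      · obtain ⟨k, rfl⟩ : ∃ k : ℕ, m = (k : ℤ) + 1 := ⟨(m - 1).toNat, by omega⟩
        have h0 : C x * T (k : ℤ) ∈ KGr.rees P := by
          refine mul_mem ?_ ?_
          · simpa using mono_mem P (n := 0) (x := x) (by rw [gf_zero]; trivial)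
          · have := pow_mem (KGr.tGen P).2 k
            change (T 1 : LaurentPolynomial K) ^ k ∈ _ at this
            rwa [T_pow, mul_one] at this
        have e : KGr.tGen P * ⟨_, h0⟩ = (⟨C x * T ((k : ℤ) + 1), by
            rw [T_add, ← mul_assoc]; exact mul_mem h0 (KGr.tGen P).2⟩ : KGr.rees P) := Subtype.ext (by
          change T 1 * (C x * T (k : ℤ)) = C x * T ((k : ℤ) + 1)
          rw [T_add]; ring)
        refine ⟨by rw [T_add, ← mul_assoc]; exact mul_mem h0 (KGr.tGen P).2, ?_⟩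
        rw [← e, Ideal.Quotient.eq_zero_iff_mem.mpr
          (Ideal.mul_mem_right _ _ (Ideal.mem_span_singleton_self _)), TensorProduct.tmul_zero]
        exact zero_mem _
    | zero =>
      refine ⟨zero_mem _, ?_⟩
      rw [show (⟨0, zero_mem _⟩ : KGr.rees P) = 0 from rfl, map_zero, TensorProduct.tmul_zero]
      exact zero_mem _
    | add a b _ _ ha hb =>
      obtain ⟨ha, ha'⟩ := ha
      obtain ⟨hb, hb'⟩ := hb
      refine ⟨add_mem ha hb, ?_⟩
      rw [show (⟨a + b, add_mem ha hb⟩ : KGr.rees P) = ⟨a, ha⟩ + ⟨b, hb⟩ from rfl, map_add,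
        TensorProduct.tmul_add]
      exact add_mem ha' hb'
    | neg a _ ha =>
      obtain ⟨ha, ha'⟩ := ha
      refine ⟨neg_mem ha, ?_⟩
      rw [show (⟨-a, neg_mem ha⟩ : KGr.rees P) = -⟨a, ha⟩ from rfl, map_neg, TensorProduct.tmul_neg]
      exact neg_mem ha'

theorem exists_tmul_of_mem_qF {n : ℕ} {v : ℚ ⊗[ℤ] K} (hv : v ∈ qF P n) :
    ∃ (N : ℕ) (x : K), N ≠ 0 ∧ x ∈ gammaFiltration P n ∧ (N : ℚ) • v = (1 : ℚ) ⊗ₜ[ℤ] x := by
  refine Submodule.span_induction (p := fun v _ => ∃ (N : ℕ) (x : K), N ≠ 0 ∧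
    x ∈ gammaFiltration P n ∧ (N : ℚ) • v = (1 : ℚ) ⊗ₜ[ℤ] x) ?_ ?_ ?_ ?_ hv
  · rintro _ ⟨x, hx, rfl⟩; exact ⟨1, x, one_ne_zero, hx, by simp⟩
  · exact ⟨1, 0, one_ne_zero, zero_mem _, by simp⟩
  · rintro a b _ _ ⟨N, x, hN, hx, ex⟩ ⟨M, y, hM, hy, ey⟩
    refine ⟨N * M, M • x + N • y, Nat.mul_ne_zero hN hM,
      add_mem (nsmul_mem hx M) (nsmul_mem hy N), ?_⟩
    rw [TensorProduct.tmul_add, TensorProduct.tmul_smul, TensorProduct.tmul_smul, ← ex, ← ey,
      ← Nat.cast_smul_eq_nsmul ℚ, ← Nat.cast_smul_eq_nsmul ℚ, smul_smul, smul_smul, smul_add,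
      Nat.cast_mul, mul_comm (N : ℚ)]
  · rintro c a _ ⟨N, x, hN, hx, ex⟩
    refine ⟨N * c.den, c.num • x, Nat.mul_ne_zero hN c.den_nz, zsmul_mem hx _, ?_⟩
    rw [TensorProduct.tmul_smul, ← ex, ← Int.cast_smul_eq_zsmul ℚ, smul_smul, smul_smul]
    congr 1
    rw [Nat.cast_mul, mul_assoc, Rat.den_mul_eq_num, mul_comm]

theorem exists_mul_eq_zero_of_tmul {x : K} (h : (1 : ℚ) ⊗ₜ[ℤ] x = 0) :
    ∃ N : ℕ, N ≠ 0 ∧ (N : K) * x = 0 := by
  have hl : IsLocalizedModule (nonZeroDivisors ℤ) (TensorProduct.mk ℤ ℚ K 1) :=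
    (isLocalizedModule_iff_isBaseChange (nonZeroDivisors ℤ) ℚ _).mpr (TensorProduct.isBaseChange ℤ K ℚ)
  obtain ⟨⟨z, hz⟩, hz'⟩ := (hl.eq_zero_iff (nonZeroDivisors ℤ) (TensorProduct.mk ℤ ℚ K 1)).mp h
  refine ⟨z.natAbs, Int.natAbs_ne_zero.mpr (nonZeroDivisors.ne_zero hz), ?_⟩
  replace hz' : z • x = 0 := hz'
  rcases Int.natAbs_eq z with hh | hh
  · rw [hh] at hz'
    simpa [zsmul_eq_mul] using hz'
  · rw [hh] at hz'
    simpa [zsmul_eq_mul] using hz'

end KGrLib
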