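import Groth.Prelude.Def_KRR
import Groth.Agent.LambdaSpL.PosInv
import Mathlib.RingTheory.PowerSeries.WellKnown
import Mathlib.RingTheory.AdjoinRoot

/-! The operations `σ` and the elementary extension. -/

universe v

open LambdaRing LambdaSpLib Finset PowerSeries

noncomputable section

namespace KGrLib

variable {K : Type v} [CommRing K] [LambdaOps K] (P : PosStructure K)

theorem rescale_const (e : K) :
    constantCoeff (rescale (-1 : K) (lamSeries e)) = ((1 : Kˣ) : K) := by
  rw [← coeff_zero_eq_constantCoeff, coeff_rescale, pow_zero, one_mul, lamSeries, coeff_mk,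
    LambdaOps.lam_zero]
  rfl

theorem rescale_mul_sigma (e : K) :
    rescale (-1 : K) (lamSeries e) * KRR.sigmaSeries e = 1 := by
  rw [KRR.sigmaSeries, mul_invOfUnit _ 1 (rescale_const e)]

theorem sigma_zero (e : K) : KRR.sigma 0 e = 1 := by
  rw [KRR.sigma, KRR.sigmaSeries, coeff_zero_eq_constantCoeff, constantCoeff_invOfUnit]
  simp

theorem sigma_rel (e : K) {k : ℕ} (hk : 1 ≤ k) :
    ∑ i ∈ range (k + 1), (-1 : K) ^ i * LambdaOps.lam i e * KRR.sigma (k - i) e = 0 := by
  have := congrArg (coeff k) (rescale_mul_sigma e)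
  rw [coeff_mul, Finset.Nat.sum_antidiagonal_eq_sum_range_succ_mk, coeff_one, if_neg (by omega)] at this
  refine (sum_congr rfl fun i _ => ?_).trans this
  rw [coeff_rescale, lamSeries, coeff_mk]
  rfl

theorem eval₂_extPoly {B : Type v} [CommRing B] (g : K →+* B) (x : B) (e : K) :
    (KRR.extPoly P e).eval₂ g x = ∑ i ∈ range ((P.aug e).toNat + 1),
      g ((-1 : K) ^ i * LambdaOps.lam i e) * x ^ ((P.aug e).toNat - i) := by
  rw [KRR.extPoly, Polynomial.eval₂_finset_sum]
  exact sum_congr rfl fun i _ => by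
    rw [Polynomial.eval₂_mul, Polynomial.eval₂_C, Polynomial.eval₂_X_pow]

theorem root_rel (e : K) :
    ∑ i ∈ range ((P.aug e).toNat + 1), AdjoinRoot.of (KRR.extPoly P e) ((-1 : K) ^ i * LambdaOps.lam i e) *
      AdjoinRoot.root (KRR.extPoly P e) ^ ((P.aug e).toNat - i) = 0 := by
  have h := AdjoinRoot.eval₂_root (KRR.extPoly P e)
  set g := AdjoinRoot.of (KRR.extPoly P e) with hg
  set x := AdjoinRoot.root (KRR.extPoly P e)
  rw [eval₂_extPoly] at h
  exact h

theorem root_rel_mul (e : K) (f : AdjoinRoot (KRR.extPoly P e) →ₗ[K] K)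
    (y : AdjoinRoot (KRR.extPoly P e)) :
    ∑ i ∈ range ((P.aug e).toNat + 1), (-1 : K) ^ i * LambdaOps.lam i e *
      f (AdjoinRoot.root (KRR.extPoly P e) ^ ((P.aug e).toNat - i) * y) = 0 := by
  have h := congrArg (fun z => f (z * y)) (root_rel P e)
  simp only [sum_mul, zero_mul, map_zero, map_sum] at h
  refine (sum_congr rfl fun i _ => ?_).trans h
  rw [mul_assoc (AdjoinRoot.of _ _), ← AdjoinRoot.algebraMap_eq, ← Algebra.smul_def, map_smul, smul_eq_mul]

variable {e : K} (he : e ∈ P.pos) {r : ℕ} (hr : P.aug e = r + 1)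

include he hr in
theorem lam_vanish {i : ℕ} (hi : r + 1 < i) : LambdaOps.lam i e = 0 :=
  P.lam_eq_zero e he i (by rw [hr]; omega)

include he hr in
theorem f_root_pow (f : AdjoinRoot (KRR.extPoly P e) →ₗ[K] K)
    (hf : ∀ i : ℕ, i ≤ r → f (AdjoinRoot.root (KRR.extPoly P e) ^ i) = KRR.sigma i e) :
    ∀ i : ℕ, f (AdjoinRoot.root (KRR.extPoly P e) ^ i) = KRR.sigma i e := by
  intro n
  induction n using Nat.strong_induction_on with
  | h n ih =>
    rcases le_or_gt n r with h | h
    · exact hf n h
    have hm : (P.aug e).toNat = r + 1 := by omega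
    have h1 := root_rel_mul P e f (AdjoinRoot.root (KRR.extPoly P e) ^ (n - (r + 1)))
    rw [hm] at h1
    have h2 := sigma_rel e (k := n) (by omega)
    have h3 : ∑ i ∈ range (n + 1), (-1 : K) ^ i * LambdaOps.lam i e * KRR.sigma (n - i) e =
        ∑ i ∈ range (r + 1 + 1), (-1 : K) ^ i * LambdaOps.lam i e * KRR.sigma (n - i) e := by
      refine (sum_subset (range_mono (by omega)) fun i hi hni => ?_).symm
      simp only [mem_range] at hi hni
      rw [lam_vanish P he hr (by omega), mul_zero, zero_mul]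
    rw [h3, sum_range_succ'] at h2
    rw [sum_range_succ'] at h1
    have h4 : ∀ i ∈ range (r + 1), (-1 : K) ^ (i + 1) * LambdaOps.lam (i + 1) e *
        f (AdjoinRoot.root (KRR.extPoly P e) ^ (r + 1 - (i + 1)) *
          AdjoinRoot.root (KRR.extPoly P e) ^ (n - (r + 1))) =
        (-1 : K) ^ (i + 1) * LambdaOps.lam (i + 1) e * KRR.sigma (n - (i + 1)) e := fun i hi => by
      simp only [mem_range] at hi
      rw [← pow_add, show r + 1 - (i + 1) + (n - (r + 1)) = n - (i + 1) by omega, ih _ (by omega)]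
    rw [sum_congr rfl h4, LambdaOps.lam_zero, ← pow_add,
      show r + 1 - 0 + (n - (r + 1)) = n by omega, pow_zero, one_mul, one_mul] at h1
    rw [LambdaOps.lam_zero, pow_zero, one_mul, one_mul, Nat.sub_zero] at h2
    exact add_left_cancel (h1.trans h2.symm)

include he hr in
theorem f_linv_pow (f : AdjoinRoot (KRR.extPoly P e) →ₗ[K] K)
    (hf : ∀ i : ℕ, i ≤ r → f (AdjoinRoot.root (KRR.extPoly P e) ^ i) = KRR.sigma i e)
    (linv : AdjoinRoot (KRR.extPoly P e)) (hlinv : linv * AdjoinRoot.root (KRR.extPoly P e) = 1) :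
    ∀ n : ℕ, 1 ≤ n → n ≤ r → f (linv ^ n) = 0 := by
  have hm : (P.aug e).toNat = r + 1 := by omega
  set x := AdjoinRoot.root (KRR.extPoly P e)
  intro n
  induction n using Nat.strong_induction_on with
  | h n ih =>
    intro hn hnr
    have h1 := root_rel_mul P e f (linv ^ n)
    rw [hm] at h1
    set k := r + 1 - n
    have hle : ∀ a b : ℕ, b ≤ a → x ^ a * linv ^ b = x ^ (a - b) := fun a b hab => by
      rw [show a = (a - b) + b by omega, pow_add, mul_assoc, ← mul_pow, mul_comm x linv, hlinv, one_pow,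
        mul_one, Nat.add_sub_cancel]
    have hge : ∀ a b : ℕ, a ≤ b → x ^ a * linv ^ b = linv ^ (b - a) := fun a b hab => by
      rw [show b = a + (b - a) by omega, pow_add, ← mul_assoc, ← mul_pow, mul_comm x linv, hlinv, one_pow,
        one_mul, Nat.add_sub_cancel_left]
    rw [← sum_range_add_sum_Ico _ (show k + 1 ≤ r + 1 + 1 by omega)] at h1
    have h2 : ∑ i ∈ range (k + 1), (-1 : K) ^ i * LambdaOps.lam i e * f (x ^ (r + 1 - i) * linv ^ n) = 0 := by
      refine (sum_congr rfl fun i hi => ?_).trans (sigma_rel e (k := k) (by omega))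
      simp only [mem_range] at hi
      rw [hle _ _ (by omega), show r + 1 - i - n = k - i by omega, hf _ (by omega)]
    rw [h2, zero_add, sum_Ico_succ_top (by omega)] at h1
    rw [sum_eq_zero (fun i hi => by
      simp only [mem_Ico] at hi
      rw [hge _ _ (by omega), ih _ (by omega) (by omega) (by omega), mul_zero]), zero_add,
      Nat.sub_self, pow_zero, one_mul] at h1
    have hu : IsUnit ((-1 : K) ^ (r + 1) * LambdaOps.lam (r + 1) e) := by
      refine ((isUnit_one.neg).pow _).mul ?_
      have := P.isUnit_lam e he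
      rwa [hm] at this
    exact hu.mul_right_eq_zero.mp h1

variable (hP : HasSplitting K P)

include he hr hP in
theorem aug_sigma (j : ℕ) : P.aug (KRR.sigma j e) = ((r + j).choose j : ℤ) := by
  have h1 : (rescale (-1 : K) (lamSeries e)).map P.aug = ((1 - X : PowerSeries ℤ)) ^ (r + 1) := by
    have h2 : (1 - X : PowerSeries ℤ) ^ (r + 1) =
        rescale (-1 : ℤ) ((((1 + Polynomial.X) ^ (r + 1) : Polynomial ℤ)) : PowerSeries ℤ) := by
      rw [Polynomial.coe_pow, Polynomial.coe_add, Polynomial.coe_one, Polynomial.coe_X, map_pow, map_add,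
        map_one, rescale_X]
      simp [sub_eq_add_neg]
    ext i
    rw [coeff_map, coeff_rescale, lamSeries, coeff_mk, map_mul, map_pow, map_neg, map_one,
      aug_lam P hP he, show (P.aug e).toNat = r + 1 by omega, h2, coeff_rescale, Polynomial.coeff_coe,
      Polynomial.coeff_one_add_X_pow]
  have h3 : (KRR.sigmaSeries e).map P.aug = (invOneSubPow ℤ (r + 1)).val := by
    have h4 : ((1 - X : PowerSeries ℤ)) ^ (r + 1) * (KRR.sigmaSeries e).map P.aug = 1 := by
      rw [← h1, ← map_mul, rescale_mul_sigma, map_one]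
    rw [← invOneSubPow_inv_eq_one_sub_pow] at h4
    calc (KRR.sigmaSeries e).map P.aug
        = (invOneSubPow ℤ (r + 1)).val * ((invOneSubPow ℤ (r + 1)).inv * (KRR.sigmaSeries e).map P.aug) := by
          rw [← mul_assoc, Units.val_inv, one_mul]
      _ = _ := by rw [h4, mul_one]
  have := congrArg (coeff j) h3
  rw [coeff_map, invOneSubPow_val_succ_eq_mk_add_choose, coeff_mk] at this
  rw [KRR.sigma, this, ← Nat.choose_symm_add]

include he hr hP in
theorem aug_f_root_sub_one_pow (f : AdjoinRoot (KRR.extPoly P e) →ₗ[K] K)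
    (hf : ∀ i : ℕ, i ≤ r → f (AdjoinRoot.root (KRR.extPoly P e) ^ i) = KRR.sigma i e) :
    P.aug (f ((AdjoinRoot.root (KRR.extPoly P e) - 1) ^ r)) = 1 := by
  have h := congrFun (fwdDiff_iter_choose 0 r) r
  rw [fwdDiff_iter_eq_sum_shift, add_zero, Nat.choose_zero_right, Nat.cast_one] at h
  rw [sub_eq_add_neg, add_pow, map_sum, map_sum]
  refine (sum_congr rfl fun k hk => ?_).trans h
  simp only [mem_range] at hk
  set x := AdjoinRoot.root (KRR.extPoly P e)
  have e1 : x ^ k * (-1) ^ (r - k) * (r.choose k : AdjoinRoot (KRR.extPoly P e)) =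
      ((-1 : K) ^ (r - k) * (r.choose k : K)) • x ^ k := by
    rw [Algebra.smul_def, map_mul, map_pow, map_neg, map_one, map_natCast]; ring
  rw [e1, map_smul, hf k (by omega), smul_eq_mul, map_mul, map_mul, map_pow, map_neg, map_one,
    map_natCast, aug_sigma P he hr hP, smul_eq_mul, smul_eq_mul, mul_one, ← Nat.choose_symm_add]

include he hP in
theorem adams_lamAlt (j : ℕ) :
    adams P j (KRR.lamAlt P e) = KRR.lamAlt P e * KRR.bott P j e := by
  obtain ⟨L, g, hg, hL, h⟩ := exists_split P hP [e] (by simp [he])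
  obtain ⟨s, hs, hse⟩ := h e (by simp)
  have hcard : (P.aug e).toNat = s.card := by rw [← card_of_sum hs hse, hg.aug_comp]
  have hlam : ∀ i, g (LambdaOps.lam i e) = s.esymm i := fun i => by
    rw [hg.isLambdaHom, ← hse, lam_sum_lines fun u hu => line_lam (hs u hu)]
  have h1 : g (KRR.lamAlt P e) = (s.map fun u => 1 - u).prod := by
    rw [KRR.lamAlt, map_sum, hcard, ← sum_alt_esymm]
    exact sum_congr rfl fun i _ => by rw [map_mul, map_pow, map_neg, map_one, hlam]
  obtain ⟨u, hu⟩ : ∃ u : Fin (P.aug e).toNat → L.carrier, s = Finset.univ.val.map u := by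
    have hl : s.toList.length = (P.aug e).toNat := by rw [Multiset.length_toList, hcard]
    refine ⟨fun i => s.toList.get (i.cast hl.symm), ?_⟩
    rw [Fin.univ_val_map]
    conv_lhs => rw [← s.coe_toList]
    congr 1
    exact List.ext_getElem (by simp [hl]) (fun i h1 h2 => by simp)
  have h2 : g (KRR.bott P j e) = (s.map fun u => ∑ k ∈ range j, u ^ k).prod := by
    have hb : MvPolynomial.aeval (fun i : Fin (P.aug e).toNat =>
        MvPolynomial.esymm (Fin (P.aug e).toNat) ℤ (i.1 + 1)) (KRR.bottPoly j (P.aug e).toNat) =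
        KRR.bottSym j (P.aug e).toNat := by
      rw [← MvPolynomial.esymmAlgHom_apply]
      exact congrArg Subtype.val ((MvPolynomial.esymmAlgEquiv (Fin (P.aug e).toNat) ℤ
        (Fintype.card_fin _)).apply_symm_apply ⟨_, KRR.bottSym_isSymmetric j _⟩)
    have h5 := congrArg (MvPolynomial.aeval u) hb
    rw [← AlgHom.comp_apply, MvPolynomial.comp_aeval] at h5
    rw [KRR.bott, MvPolynomial.aeval_def, MvPolynomial.eval₂_comp_left g]
    rw [MvPolynomial.aeval_def] at h5
    convert h5 using 1
    · congr 1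
      · exact RingHom.ext_int _ _
      · funext i
        rw [Function.comp_apply, hlam, hu, ← MvPolynomial.aeval_esymm_eq_multiset_esymm (Fin (P.aug e).toNat) ℤ]
    · rw [KRR.bottSym, map_prod, hu, Multiset.map_map, ← Finset.prod_eq_multiset_prod]
      exact prod_congr rfl fun i _ => by simp
  apply hg.injective
  rw [map_mul, adams_map hg, h1, h2, ← adamsRingHom_apply L.posStr hL, map_multiset_prod,
    Multiset.map_map, ← Multiset.prod_map_mul]
  congr 1
  refine Multiset.map_congr rfl fun a ha => ?_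
  rw [Function.comp_apply, map_sub, map_one, adamsRingHom_apply, adams_line (hs a ha), mul_neg_geom_sum]

end KGrLib
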